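import Mathlib
import Cfsg.Agent.FastGrp
import Cfsg.Agent.Prune
set_option linter.all false
prune_inst 0x7f00000000000000000000000000000000000000000000000000000000000000000000000000000000000000000000000000000000000000000000000000000000000000000000000000000000000000003fffffffffffffffffffffffffffbeffbdffffffff
open scoped Cfsg.Agent.FastGrp

/-!
# Elementary abelian subgroups of order 16 with full automiser, split extension: the frame (S1918)

`V = F_2^4` with the dot product `dt`. `Sit th O K0` says that `th : V → K` identifies `V` with an elementary abelian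
subgroup `A` of `K` such that the centraliser of `A` is `O × A` (`O` of odd order, normalised by the normaliser of `A`),
the normaliser of `A` acts as the full group `GL_4(2)`, and this action splits: `K0 / O` is isomorphic to `GL_4(2)`.
-/

set_option autoImplicit false

namespace Cfsg.Agent.H336.LinFour

/-- the space -/
abbrev V := Fin 4 → ZMod 2

/-- the dot product -/
def dt (c v : V) : ZMod 2 := c 0 * v 0 + c 1 * v 1 + c 2 * v 2 + c 3 * v 3

theorem z2 (x : ZMod 2) : x = 0 ∨ x = 1 := by revert x; decide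

theorem z2_add_self (x : ZMod 2) : x + x = 0 := by revert x; decide

theorem v_add_self (v : V) : v + v = 0 := by
  funext i
  exact z2_add_self _

theorem v_neg (v : V) : -v = v := by
  rw [neg_eq_iff_add_eq_zero]; exact v_add_self v

theorem add_eq_zero_iff (u v : V) : u + v = 0 ↔ u = v := by
  rw [add_eq_zero_iff_eq_neg, v_neg]

theorem add_add_self (u v : V) : u + v + v = u := by
  rw [add_assoc, v_add_self, add_zero]

theorem self_add_add (u v : V) : u + (u + v) = v := by
  rw [← add_assoc, v_add_self, zero_add]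

theorem dt_add (c u v : V) : dt c (u + v) = dt c u + dt c v := by
  simp only [dt, Pi.add_apply]; ring

theorem dt_add_left (c d v : V) : dt (c + d) v = dt c v + dt d v := by
  simp only [dt, Pi.add_apply]; ring

theorem dt_comm (c v : V) : dt c v = dt v c := by
  simp only [dt]; ring

theorem dt_zero (c : V) : dt c 0 = 0 := by simp [dt]

theorem dt_zero_left (v : V) : dt 0 v = 0 := by simp [dt]

theorem dt_smul (c v : V) (x : ZMod 2) : dt c (x • v) = x * dt c v := by
  simp only [dt, Pi.smul_apply, smul_eq_mul]; ring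

theorem dt_smul_left (c v : V) (x : ZMod 2) : dt (x • c) v = x * dt c v := by
  simp only [dt, Pi.smul_apply, smul_eq_mul]; ring

theorem dt_sum (c v : V) : dt c v = ∑ i, c i * v i := by
  simp [dt, Fin.sum_univ_four]

theorem v_ext_iff (u v : V) : u = v ↔ u 0 = v 0 ∧ u 1 = v 1 ∧ u 2 = v 2 ∧ u 3 = v 3 := by
  constructor
  · rintro rfl; exact ⟨rfl, rfl, rfl, rfl⟩
  · rintro ⟨h0, h1, h2, h3⟩
    funext i
    fin_cases i
    · exact h0
    · exact h1
    · exact h2
    · exact h3

theorem tab_one : ∀ a b c d : ZMod 2, ¬ (a = 0 ∧ b = 0 ∧ c = 0 ∧ d = 0) →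
    ∃ x y z t : ZMod 2, x * a + y * b + z * c + t * d = 1 := by decide +kernel

theorem exists_dt {v : V} (h : v ≠ 0) : ∃ c, dt c v = 1 := by
  rw [Ne, v_ext_iff] at h
  obtain ⟨x, y, z, t, hx⟩ := tab_one (v 0) (v 1) (v 2) (v 3) h
  exact ⟨![x, y, z, t], hx⟩

theorem eq_zero_of_dt {v : V} (h : ∀ c, dt c v = 0) : v = 0 := by
  by_contra hv
  obtain ⟨c, hc⟩ := exists_dt hv
  rw [h] at hc
  exact absurd hc (by decide)

/-- independent vectors -/
theorem exists_dt_one_zero {u v : V} (hu : u ≠ 0) (huv : u ≠ v) : ∃ c, dt c u = 1 ∧ dt c v = 0 := by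
  obtain ⟨c1, h1⟩ := exists_dt hu
  rcases z2 (dt c1 v) with h | h
  · exact ⟨c1, h1, h⟩
  have hs : u + v ≠ 0 := fun hh => huv ((add_eq_zero_iff _ _).1 hh)
  obtain ⟨c2, h2⟩ := exists_dt hs
  rw [dt_add] at h2
  rcases z2 (dt c2 u) with h3 | h3
  · rw [h3, zero_add] at h2
    refine ⟨c1 + c2, ?_, ?_⟩
    · rw [dt_add_left, h1, h3, add_zero]
    · rw [dt_add_left, h, h2]; decide
  · refine ⟨c2, h3, ?_⟩
    rw [h3] at h2
    rcases z2 (dt c2 v) with h4 | h4
    · exact h4
    · rw [h4] at h2; exact absurd h2 (by decide)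

theorem exists_dt_pair {u v : V} (hu : u ≠ 0) (hv : v ≠ 0) (huv : u ≠ v) (x y : ZMod 2) :
    ∃ c, dt c u = x ∧ dt c v = y := by
  obtain ⟨c, h1, h2⟩ := exists_dt_one_zero hu huv
  obtain ⟨d, h3, h4⟩ := exists_dt_one_zero hv huv.symm
  refine ⟨x • c + y • d, ?_, ?_⟩
  · rw [dt_add_left, dt_smul_left, dt_smul_left, h1, h4]; ring
  · rw [dt_add_left, dt_smul_left, dt_smul_left, h2, h3]; ring

/-- three independent vectors -/
theorem exists_dt_triple_one {u v w : V} (hw0 : w ≠ 0) (hwu : w ≠ u) (hwv : w ≠ v) (hwuv : w ≠ u + v) :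
    ∃ c, dt c u = 0 ∧ dt c v = 0 ∧ dt c w = 1 := by
  by_cases huv : u = v
  · subst huv
    obtain ⟨c, h1, h2⟩ := exists_dt_one_zero hw0 hwu
    exact ⟨c, h2, h2, h1⟩
  by_cases hu : u = 0
  · subst hu
    obtain ⟨c, h1, h2⟩ := exists_dt_one_zero hw0 hwv
    exact ⟨c, dt_zero _, h2, h1⟩
  obtain ⟨c1, h1, h2⟩ := exists_dt_one_zero hw0 hwv
  rcases z2 (dt c1 u) with h3 | h3
  · exact ⟨c1, h3, h2, h1⟩
  -- `dt c1 w = 1`, `dt c1 v = 0`, `dt c1 u = 1`; look for `c2` with `v ↦ 0`, `u + w ↦ 1`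
  have hne : u + w ≠ 0 := fun hh => hwu ((add_eq_zero_iff _ _).1 hh).symm
  have hne' : u + w ≠ v := fun hh => hwuv (by rw [← hh, self_add_add])
  obtain ⟨c2, h4, h5⟩ := exists_dt_one_zero hne hne'
  rw [dt_add] at h4
  rcases z2 (dt c2 u) with h6 | h6
  · rw [h6, zero_add] at h4
    exact ⟨c2, h6, h5, h4⟩
  · rw [h6] at h4
    have h7 : dt c2 w = 0 := by
      rcases z2 (dt c2 w) with h8 | h8
      · exact h8
      · rw [h8] at h4; exact absurd h4 (by decide)
    refine ⟨c1 + c2, ?_, ?_, ?_⟩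
    · rw [dt_add_left, h3, h6]; decide
    · rw [dt_add_left, h2, h5, add_zero]
    · rw [dt_add_left, h1, h7, add_zero]

theorem exists_dt_triple {u v w : V} (hu : u ≠ 0) (hv : v ≠ 0) (huv : u ≠ v) (hw0 : w ≠ 0) (hwu : w ≠ u)
    (hwv : w ≠ v) (hwuv : w ≠ u + v) (x y z : ZMod 2) : ∃ c, dt c u = x ∧ dt c v = y ∧ dt c w = z := by
  obtain ⟨c, h1, h2⟩ := exists_dt_pair hu hv huv x y
  obtain ⟨d, h3, h4, h5⟩ := exists_dt_triple_one hw0 hwu hwv hwuv
  refine ⟨c + (z + dt c w) • d, ?_, ?_, ?_⟩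
  · rw [dt_add_left, dt_smul_left, h3, mul_zero, add_zero, h1]
  · rw [dt_add_left, dt_smul_left, h4, mul_zero, add_zero, h2]
  · rw [dt_add_left, dt_smul_left, h5, mul_one, add_comm z, ← add_assoc, z2_add_self, zero_add]

/-- the transvections `v ↦ v + dt c v • a`, `dt c a = 0` -/
def tv (c a : V) (h : dt c a = 0) : V ≃+ V where
  toFun v := v + dt c v • a
  invFun v := v + dt c v • a
  left_inv v := by
    simp only [dt_add, dt_smul, h, mul_zero, add_zero]
    rw [add_assoc, v_add_self, add_zero]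
  right_inv v := by
    simp only [dt_add, dt_smul, h, mul_zero, add_zero]
    rw [add_assoc, v_add_self, add_zero]
  map_add' u v := by
    rw [dt_add, add_smul]; abel

theorem tv_apply (c a v : V) (h : dt c a = 0) : tv c a h v = v + dt c v • a := rfl

theorem tv_of_zero {c a v : V} (h : dt c a = 0) (hv : dt c v = 0) : tv c a h v = v := by
  rw [tv_apply, hv, zero_smul, add_zero]

theorem tv_of_one {c a v : V} (h : dt c a = 0) (hv : dt c v = 1) : tv c a h v = v + a := by
  rw [tv_apply, hv, one_smul]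

theorem dt_tv (c a d v : V) (h : dt c a = 0) : dt d (tv c a h v) = dt (d + dt d a • c) v := by
  rw [tv_apply, dt_add, dt_smul, dt_add_left, dt_smul_left, mul_comm (dt c v)]

/-- transitivity on nonzero vectors -/
theorem exists_map {u v : V} (hu : u ≠ 0) (hv : v ≠ 0) : ∃ g : V ≃+ V, g u = v := by
  by_cases huv : u = v
  · exact ⟨AddEquiv.refl V, huv⟩
  obtain ⟨c, h1, h2⟩ := exists_dt_pair hu hv huv 1 1
  refine ⟨tv c (u + v) (by rw [dt_add, h1, h2]; decide), ?_⟩
  rw [tv_of_one _ h1, self_add_add]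

/-- the stabiliser of `a` is transitive on the vectors `≠ 0, a` -/
theorem exists_map_fix {a u v : V} (ha : a ≠ 0) (hu : u ≠ 0) (hua : u ≠ a) (hv : v ≠ 0) (hva : v ≠ a) :
    ∃ g : V ≃+ V, g a = a ∧ g u = v := by
  by_cases huv : u = v
  · exact ⟨AddEquiv.refl V, rfl, huv⟩
  by_cases h : v = a + u
  · obtain ⟨c, h1, h2⟩ := exists_dt_pair ha hu hua.symm 0 1
    refine ⟨tv c a h1, tv_of_zero _ h1, ?_⟩
    rw [tv_of_one _ h2, h, add_comm]
  · obtain ⟨c, h1, h2, h3⟩ := exists_dt_triple ha hu hua.symm hv hva (fun h => huv h.symm) h 0 1 1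
    refine ⟨tv c (u + v) (by rw [dt_add, h2, h3]; decide), tv_of_zero _ h1, ?_⟩
    rw [tv_of_one _ h2, self_add_add]

/-- transitivity on pairs of different nonzero vectors -/
theorem exists_map_pair {u v u' v' : V} (hu : u ≠ 0) (hv : v ≠ 0) (huv : u ≠ v) (hu' : u' ≠ 0) (hv' : v' ≠ 0)
    (huv' : u' ≠ v') : ∃ g : V ≃+ V, g u = u' ∧ g v = v' := by
  obtain ⟨g, hg⟩ := exists_map hu hu'
  have h1 : g v ≠ 0 := fun hh => hv ((AddEquiv.map_eq_zero_iff g).1 hh)
  have h2 : g v ≠ u' := fun hh => huv (g.injective (hg.trans hh.symm))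
  obtain ⟨k, hk1, hk2⟩ := exists_map_fix hu' h1 h2 hv' huv'.symm
  exact ⟨g.trans k, by rw [AddEquiv.trans_apply, hg, hk1], by rw [AddEquiv.trans_apply, hk2]⟩

/-- transitivity on nonzero functionals -/
theorem exists_map_dual {c d : V} (hc : c ≠ 0) (hd : d ≠ 0) : ∃ g : V ≃+ V, ∀ v, dt c (g v) = dt d v := by
  by_cases hcd : c = d
  · exact ⟨AddEquiv.refl V, fun v => by rw [hcd]; rfl⟩
  obtain ⟨b, h1, h2⟩ := exists_dt_pair hc hd hcd 1 1
  rw [dt_comm] at h1 h2
  refine ⟨tv (c + d) b (by rw [dt_add_left, h1, h2]; decide), fun v => ?_⟩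
  rw [dt_tv, h1, one_smul, self_add_add]

/-- the situation: `th` identifies `V` with an elementary abelian subgroup of order 16 -/
structure Sit {K : Type*} [Group K] (th : V → K) (O K0 : Subgroup K) : Prop where
  add : ∀ u v, th (u + v) = th u * th v
  inj : Function.Injective th
  odd : Odd (Nat.card O)
  oc : ∀ x ∈ O, ∀ v, x * th v = th v * x
  oN : ∀ x ∈ O, ∀ n : K, (∀ v, ∃ u, n * th v * n⁻¹ = th u) → n * x * n⁻¹ ∈ O
  cent : ∀ x : K, (∀ v, x * th v = th v * x) → ∃ o ∈ O, ∃ v, x = o * th v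
  k0 : ∀ k ∈ K0, ∀ v, ∃ u, k * th v * k⁻¹ = th u
  le : O ≤ K0
  k0c : ∀ k ∈ K0, (∀ v, k * th v = th v * k) → k ∈ O
  full : ∀ g : V ≃+ V, ∃ k ∈ K0, ∀ v, k * th v * k⁻¹ = th (g v)

namespace Sit

variable {K : Type*} [Group K] {th : V → K} {O K0 : Subgroup K}

theorem zero (h : Sit th O K0) : th 0 = 1 := by
  have := h.add 0 0
  rw [add_zero] at this
  exact left_eq_mul.mp this

theorem sq (h : Sit th O K0) (v : V) : th v * th v = 1 := by
  rw [← h.add, v_add_self, h.zero]

theorem inv (h : Sit th O K0) (v : V) : (th v)⁻¹ = th v :=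
  inv_eq_of_mul_eq_one_left (h.sq v)

theorem comm (h : Sit th O K0) (u v : V) : th u * th v = th v * th u := by
  rw [← h.add, ← h.add, add_comm]

theorem eq_one_iff (h : Sit th O K0) (v : V) : th v = 1 ↔ v = 0 := by
  rw [← h.zero]; exact h.inj.eq_iff

/-- the subgroup `A` -/
def A (h : Sit th O K0) : Subgroup K where
  carrier := Set.range th
  mul_mem' := by rintro _ _ ⟨u, rfl⟩ ⟨v, rfl⟩; exact ⟨u + v, h.add u v⟩
  one_mem' := ⟨0, h.zero⟩
  inv_mem' := by rintro _ ⟨u, rfl⟩; exact ⟨u, (h.inv u).symm⟩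

theorem mem_A (h : Sit th O K0) {x : K} : x ∈ h.A ↔ ∃ v, th v = x := Iff.rfl

theorem th_mem (h : Sit th O K0) (v : V) : th v ∈ h.A := ⟨v, rfl⟩

theorem card_A (h : Sit th O K0) : Nat.card h.A = 16 := by
  have : Nat.card h.A = Nat.card V := (Nat.card_congr (Equiv.ofInjective th h.inj)).symm
  rw [this]; simp [V]

theorem mem_normalizer (h : Sit th O K0) {n : K} :
    n ∈ Subgroup.normalizer (h.A : Set K) ↔ (∀ v, ∃ u, n * th v * n⁻¹ = th u) := by
  rw [Subgroup.mem_normalizer_iff]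
  constructor
  · intro hn v
    obtain ⟨u, hu⟩ := (hn (th v)).1 ⟨v, rfl⟩
    exact ⟨u, hu.symm⟩
  · intro hn x
    constructor
    · rintro ⟨v, rfl⟩
      obtain ⟨u, hu⟩ := hn v
      exact ⟨u, hu.symm⟩
    · rintro ⟨w, hw⟩
      choose f hf using hn
      have hinj : Function.Injective f := fun a b hab => by
        apply h.inj
        have := (hf a).trans ((congrArg th hab).trans (hf b).symm)
        exact mul_left_cancel (mul_right_cancel this)
      obtain ⟨v, hv⟩ := (Finite.injective_iff_surjective.1 hinj) w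
      refine ⟨v, ?_⟩
      have := (hf v).trans ((congrArg th hv).trans hw)
      exact mul_left_cancel (mul_right_cancel this)

/-- an element normalising `A` acts as an automorphism of `V` -/
theorem exists_equiv_of_mem (h : Sit th O K0) {n : K} (hn : n ∈ Subgroup.normalizer (h.A : Set K)) :
    ∃ g : V ≃+ V, ∀ v, n * th v * n⁻¹ = th (g v) := by
  have hn' := h.mem_normalizer.1 hn
  choose f hf using hn'
  have hinj : Function.Injective f := fun a b hab => by
    apply h.inj
    have := (hf a).trans ((congrArg th hab).trans (hf b).symm)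
    exact mul_left_cancel (mul_right_cancel this)
  have hbij : Function.Bijective f := ⟨hinj, Finite.injective_iff_surjective.1 hinj⟩
  refine ⟨{ Equiv.ofBijective f hbij with map_add' := ?_ }, hf⟩
  intro u v
  change f (u + v) = f u + f v
  apply h.inj
  rw [h.add, ← hf, ← hf, ← hf, h.add]; group

theorem K0_le (h : Sit th O K0) : K0 ≤ Subgroup.normalizer (h.A : Set K) := fun k hk =>
  h.mem_normalizer.2 (h.k0 k hk)

theorem mem_of_sq (h : Sit th O K0) {x : K} (hx : ∀ v, x * th v = th v * x) {n : ℕ} (h2 : x ^ (2 ^ n) = 1) :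
    x ∈ h.A := by
  obtain ⟨o, ho, v, rfl⟩ := h.cent x hx
  have h1 : (o * th v) ^ (2 ^ n) = o ^ (2 ^ n) * th v ^ (2 ^ n) := (show Commute o (th v) from h.oc o ho v).mul_pow _
  have h3 : o ^ (2 ^ (n + 1)) = 1 := by
    have h4 : (o * th v) ^ (2 ^ (n + 1)) = 1 := by rw [pow_succ, pow_mul, h2, one_pow]
    rw [(show Commute o (th v) from h.oc o ho v).mul_pow, pow_succ 2 n, mul_comm (2 ^ n) 2, pow_mul (th v), pow_two,
      h.sq, one_pow, mul_one, mul_comm 2 (2 ^ n), ← pow_succ] at h4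
    exact h4
  have h5 : o = 1 := by
    have h6 : orderOf (⟨o, ho⟩ : O) ∣ 2 ^ (n + 1) := orderOf_dvd_of_pow_eq_one (Subtype.ext h3)
    have h7 : orderOf (⟨o, ho⟩ : O) ∣ Nat.card O := orderOf_dvd_natCard _
    have h8 : orderOf (⟨o, ho⟩ : O) = 1 := by
      have hc : Nat.Coprime (2 ^ (n + 1)) (Nat.card O) := Nat.Coprime.pow_left _ (by
        rw [Nat.coprime_two_left]; exact h.odd)
      exact Nat.eq_one_of_dvd_coprimes hc h6 h7
    exact congrArg Subtype.val (orderOf_eq_one_iff.1 h8)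
  rw [h5, one_mul]
  exact h.th_mem v

/-- an involution commuting with `A` lies in `A` -/
theorem mem_of_mul_self (h : Sit th O K0) {x : K} (hx : ∀ v, x * th v = th v * x) (h2 : x * x = 1) : x ∈ h.A :=
  h.mem_of_sq hx (n := 1) (by rw [pow_one, pow_two, h2])

/-- transvections are realised in `K0` -/
theorem exists_tv (h : Sit th O K0) (c a : V) (hca : dt c a = 0) :
    ∃ k ∈ K0, ∀ v, k * th v * k⁻¹ = th (v + dt c v • a) :=
  h.full (tv c a hca)

/-- all nonzero elements of `A` are conjugate under `K0` -/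
theorem exists_conj (h : Sit th O K0) {u v : V} (hu : u ≠ 0) (hv : v ≠ 0) : ∃ k ∈ K0, k * th u * k⁻¹ = th v := by
  obtain ⟨g, rfl⟩ := exists_map hu hv
  obtain ⟨k, hk, hk'⟩ := h.full g
  exact ⟨k, hk, hk' u⟩

/-- pairs of different nonzero elements of `A` are conjugate under `K0` -/
theorem exists_conj_pair (h : Sit th O K0) {u v u' v' : V} (hu : u ≠ 0) (hv : v ≠ 0) (huv : u ≠ v) (hu' : u' ≠ 0)
    (hv' : v' ≠ 0) (huv' : u' ≠ v') : ∃ k ∈ K0, k * th u * k⁻¹ = th u' ∧ k * th v * k⁻¹ = th v' := by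
  obtain ⟨g, rfl, rfl⟩ := exists_map_pair hu hv huv hu' hv' huv'
  obtain ⟨k, hk, hk'⟩ := h.full g
  exact ⟨k, hk, hk' u, hk' v⟩

end Sit

end Cfsg.Agent.H336.LinFour

private theorem dce_14a88bb49a6b : _root_.True := by
  try have : _root_.True := by simp only [_root_.Cfsg.Agent.H336.LinFour.dt.eq_1]
  exact _root_.True.intro
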