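import Cfsg.Agent.H336.SpSix.Def_m3
import Cfsg.Agent.H512.LinFour.FrameE8
import Cfsg.Agent.H131.ClassTwo
import Cfsg.Agent.LieClassical.HermBasic
import Cfsg.Agent.LieClassical.OmegaReindex
import Cfsg.Agent.LieClassical.OrthCenter
import Cfsg.Agent.ClassicalGeometry.OmegaIndex
import Cfsg.Prelude.Def_LieTypeChar
import Cfsg.Agent.SignalizersComponents.SLQuasisimple
import Cfsg.Agent.H785.SpE7End_m3
import Cfsg.Agent.H446.TopBound
import Cfsg.Agent.SignalizersComponents.PConstrained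
import Cfsg.Agent.S0205
import Cfsg.Agent.Lib.NormalAbelian
import Mathlib.GroupTheory.Transfer
import Cfsg.Prelude.Def_CaseTheorems
import Cfsg.Prelude.Def_TwoFusion
import Cfsg.Prelude.Def_Transfer
import Cfsg.Agent.Lib.Cores
import Cfsg.Prelude.Def_Classification2
import Cfsg.Agent.FastGrp
import Cfsg.Agent.Prune
set_option linter.all false

section
prune_inst 0x7ffca8fb2bf82ddfdfff7e77f6d4cffdfdb83fffe6fff9cbffe869ff0bdf4b02cdc56ba58beb12fe1ff6e21410f87b43ffffde7fea6bdc7ffffd5ff41ffbff8ffdf6b508519488340fbc0ff603f0778e7f3fffffffffffffffffffffffffffbeffbfffffffff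

-- part: H336/LinFour/Lift
section
set_option linter.all false
open scoped Cfsg.Agent.FastGrp

/-!
# Lifting `Sit` along a surjection with central kernel of odd order
-/

set_option autoImplicit false

namespace Cfsg.Agent.H336.LinFour

open Subgroup

section

variable {G K : Type*} [Group G] [Group K] (π : G →* K)

/-- uniqueness of involutory lifts -/
theorem lift_unique (hc : π.ker ≤ center G) (hodd : Odd (Nat.card π.ker)) {a b : G} (hab : π a = π b)
    (ha : a * a = 1) (hb : b * b = 1) : a = b := by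
  set z := a * b⁻¹ with hz
  have hzk : z ∈ π.ker := by rw [MonoidHom.mem_ker, hz, map_mul, map_inv, hab, mul_inv_cancel]
  have hzc := mem_center_iff.1 (hc hzk)
  have haz : a = z * b := by rw [hz]; group
  have hzz : z * z = 1 := by
    have h1 : a * a = z * z * (b * b) := by
      rw [haz]
      calc z * b * (z * b) = z * (b * z) * b := by group
        _ = z * (z * b) * b := by rw [hzc b]
        _ = _ := by group
    rw [ha, hb, mul_one] at h1
    exact h1.symm
  have h1 : orderOf (⟨z, hzk⟩ : π.ker) ∣ 2 := orderOf_dvd_of_pow_eq_one (Subtype.ext (by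
    change z ^ 2 = 1
    rw [pow_two, hzz]))
  have h2 : orderOf (⟨z, hzk⟩ : π.ker) ∣ Nat.card π.ker := orderOf_dvd_natCard _
  have h3 : orderOf (⟨z, hzk⟩ : π.ker) = 1 := Nat.eq_one_of_dvd_coprimes (Nat.coprime_two_left.2 hodd) h1 h2
  have h4 : z = 1 := congrArg Subtype.val (orderOf_eq_one_iff.1 h3)
  rw [haz, h4, one_mul]

/-- existence of involutory lifts -/
theorem exists_lift (hs : Function.Surjective π) (hodd : Odd (Nat.card π.ker)) {x : K}
    (hx : x * x = 1) : ∃ a : G, π a = x ∧ a * a = 1 := by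
  obtain ⟨g, rfl⟩ := hs x
  have h1 : g * g ∈ π.ker := by rw [MonoidHom.mem_ker, map_mul, hx]
  obtain ⟨n, hn⟩ := id hodd
  have h2 : (g * g) ^ Nat.card π.ker = 1 := by
    have := pow_card_eq_one' (x := (⟨g * g, h1⟩ : π.ker))
    exact congrArg Subtype.val this
  refine ⟨g ^ Nat.card π.ker, ?_, ?_⟩
  · rw [map_pow, hn, pow_succ, pow_mul, pow_two, hx, one_pow, one_mul]
  · rw [← h2, ← pow_add, ← pow_two g, ← pow_mul]
    congr 1
    ring

/-- **lifting along a surjection with central kernel of odd order** -/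
theorem Sit.lift [Finite G] {th : V → K} {O K0 : Subgroup K} (h : Sit th O K0) (hs : Function.Surjective π)
    (hc : π.ker ≤ center G) (hodd : Odd (Nat.card π.ker)) :
    ∃ th' : V → G, (∀ v, π (th' v) = th v) ∧ Sit th' (O.comap π) (K0.comap π) := by
  choose th' hth hsq using fun v => exists_lift π hs hodd (h.sq v)
  have huniq : ∀ (a : G) (v : V), π a = th v → a * a = 1 → a = th' v := fun a v h1 h2 =>
    lift_unique π hc hodd (h1.trans (hth v).symm) h2 (hsq v)
  -- conjugates
  have hconj : ∀ (k : G) (u v : V), π k * th v * (π k)⁻¹ = th u → k * th' v * k⁻¹ = th' u := by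
    intro k u v hk
    refine huniq _ _ ?_ ?_
    · rw [map_mul, map_mul, map_inv, hth, hk]
    · calc k * th' v * k⁻¹ * (k * th' v * k⁻¹) = k * (th' v * th' v) * k⁻¹ := by group
        _ = 1 := by rw [hsq]; group
  have hdown : ∀ (k : G) (u v : V), k * th' v * k⁻¹ = th' u → π k * th v * (π k)⁻¹ = th u := by
    intro k u v hk
    rw [← hth, ← hth, ← hk, map_mul, map_mul, map_inv]
  have hcomm : ∀ (k : G) (v : V), π k * th v = th v * π k → k * th' v = th' v * k := by
    intro k v hk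
    have := hconj k v v (by rw [hk, mul_inv_cancel_right])
    exact mul_inv_eq_iff_eq_mul.1 this
  have hcomm' : ∀ (k : G) (v : V), k * th' v = th' v * k → π k * th v = th v * π k := by
    intro k v hk
    rw [← hth, ← map_mul, hk, map_mul]
  refine ⟨th', hth, ?_⟩
  exact
    { add := by
        intro u v
        have h1 : th' u * th' v = th' v * th' u := hcomm _ _ (by rw [hth, h.comm])
        refine (huniq _ _ ?_ ?_).symm
        · rw [map_mul, hth, hth, h.add]
        · calc th' u * th' v * (th' u * th' v) = th' u * (th' v * th' u) * th' v := by group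
            _ = (th' u * th' u) * (th' v * th' v) := by rw [← h1]; group
            _ = 1 := by rw [hsq, hsq, one_mul]
      inj := by
        intro u v huv
        apply h.inj
        rw [← hth, ← hth, huv]
      odd := by
        by_contra hn
        rw [Nat.not_odd_iff_even] at hn
        have : Fact (Nat.Prime 2) := ⟨Nat.prime_two⟩
        obtain ⟨⟨x, hx⟩, hx2⟩ := exists_prime_orderOf_dvd_card' (G := ↥(O.comap π)) 2 (even_iff_two_dvd.mp hn)
        rw [Subgroup.orderOf_mk] at hx2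
        have hxx : x * x = 1 := by rw [← pow_two, ← hx2, pow_orderOf_eq_one]
        have h1 : orderOf (⟨π x, hx⟩ : O) ∣ 2 := orderOf_dvd_of_pow_eq_one (Subtype.ext (by
          change π x ^ 2 = 1
          rw [← map_pow, pow_two, hxx, map_one]))
        have h2 : orderOf (⟨π x, hx⟩ : O) ∣ Nat.card O := orderOf_dvd_natCard _
        have h3 : orderOf (⟨π x, hx⟩ : O) = 1 := Nat.eq_one_of_dvd_coprimes (Nat.coprime_two_left.2 h.odd) h1 h2
        have h4 : π x = 1 := congrArg Subtype.val (orderOf_eq_one_iff.1 h3)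
        have h5 : x = 1 := lift_unique π hc hodd (by rw [h4, map_one]) hxx (one_mul 1)
        rw [h5, orderOf_one] at hx2
        exact absurd hx2 (by norm_num)
      oc := fun x hx v => hcomm _ _ (h.oc _ hx v)
      oN := by
        intro x hx n hn
        change π (n * x * n⁻¹) ∈ O
        rw [map_mul, map_mul, map_inv]
        exact h.oN _ hx _ fun v => (hn v).imp fun u hu => hdown _ _ _ hu
      cent := by
        intro x hx
        obtain ⟨o, ho, v, hv⟩ := h.cent (π x) fun v => hcomm' _ _ (hx v)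
        refine ⟨x * (th' v)⁻¹, ?_, v, by group⟩
        change π (x * (th' v)⁻¹) ∈ O
        rw [map_mul, map_inv, hth, hv, mul_inv_cancel_right]
        exact ho
      k0 := fun k hk v => (h.k0 _ hk v).imp fun u hu => hconj _ _ _ hu
      le := comap_mono h.le
      k0c := fun k hk hv => h.k0c _ hk fun v => hcomm' _ _ (hv v)
      full := by
        intro g
        obtain ⟨k, hk, hk'⟩ := h.full g
        obtain ⟨k, rfl⟩ := hs k
        exact ⟨k, hk, fun v => hconj _ _ _ (hk' v)⟩ }

end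

end Cfsg.Agent.H336.LinFour
end

-- part: H512/LinFour/IdealW
section
prune_inst 0x34704d407d22020008188092b30000243800010000430000082007020b4982222941a6410e500400009294c04809000002180010422800002a0086000007000014835206a358a90426009e808800000000000000000000000000000000000000000000000
set_option linter.all false
open scoped Cfsg.Agent.FastGrp

/-!
# The ideal generated by the nonzero weights

In a Lie algebra `W` on which the elementary abelian subgroup `A` of order 16 acts by automorphisms: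
`J = {w | w₀ ∈ D}`, `D` the span of all `[x, y]`, `x`, `y` in the same nonzero weight space, is an ideal. If the nonzero
weight spaces have dimension 2 then `D` has dimension at most 15.
-/

set_option autoImplicit false

namespace Cfsg.Agent.H512.LinFour.IdealW

open Cfsg.Agent.H336.LinFour Cfsg.Agent.H511.LinFour Cfsg.Agent.H336.LinFour.Wt Cfsg.Agent.H351.SpSix

variable {F : Type*} [Field F] {W : Type*} [AddCommGroup W] [Module F W]
  {K : Type*} [Group K] {ρ : K →* Module.End F W} {th : V → K} {O K0 : Subgroup K}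

/-- products of weight vectors -/
theorem mul_mem_wt (B : W →ₗ[F] W →ₗ[F] W) (hB : ∀ v x y, ρ (th v) (B x y) = B (ρ (th v) x) (ρ (th v) y))
    {u u' : V} {x y : W} (hx : x ∈ wt ρ th u) (hy : y ∈ wt ρ th u') : B x y ∈ wt ρ th (u + u') := by
  intro v
  rw [hB, hx v, hy v, map_smul, map_smul, LinearMap.smul_apply, smul_smul, dt_add_left, sg_add, mul_comm]

variable (ρ th) in
/-- the span of the products of the nonzero weight spaces with themselves -/
def D (B : W →ₗ[F] W →ₗ[F] W) : Submodule F W :=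
  Submodule.span F {w | ∃ u, u ≠ 0 ∧ ∃ x ∈ wt ρ th u, ∃ y ∈ wt ρ th u, w = B x y}

theorem mem_D (B : W →ₗ[F] W →ₗ[F] W) {u : V} (hu : u ≠ 0) {x y : W} (hx : x ∈ wt ρ th u) (hy : y ∈ wt ρ th u) :
    B x y ∈ D ρ th B := Submodule.subset_span ⟨u, hu, x, hx, y, hy, rfl⟩

theorem zero_mul_D (B : W →ₗ[F] W →ₗ[F] W) (hB : ∀ v x y, ρ (th v) (B x y) = B (ρ (th v) x) (ρ (th v) y))
    (hJ : ∀ x y z, B x (B y z) = B (B x y) z + B y (B x z)) {x w : W} (hx : x ∈ wt ρ th 0) (hw : w ∈ D ρ th B) :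
    B x w ∈ D ρ th B := by
  induction hw using Submodule.span_induction with
  | mem w hw =>
    obtain ⟨u, hu, y, hy, z, hz, rfl⟩ := hw
    rw [hJ]
    have h1 := mul_mem_wt B hB hx hy
    have h3 := mul_mem_wt B hB hx hz
    rw [zero_add] at h1 h3
    exact Submodule.add_mem _ (mem_D B hu h1 hz) (mem_D B hu hy h3)
  | zero => rw [map_zero]; exact Submodule.zero_mem _
  | add a b _ _ ha hb => rw [map_add]; exact Submodule.add_mem _ ha hb
  | smul c a _ ha => rw [map_smul]; exact Submodule.smul_mem _ _ ha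

/-- **the ideal** -/
theorem ideal (h : Sit th O K0) (h2 : (2 : F) ≠ 0) (B : W →ₗ[F] W →ₗ[F] W)
    (hB : ∀ v x y, ρ (th v) (B x y) = B (ρ (th v) x) (ρ (th v) y))
    (hJ : ∀ x y z, B x (B y z) = B (B x y) z + B y (B x z))
    (x : W) {w : W} (hw : pr ρ th 0 w ∈ D ρ th B) : pr ρ th 0 (B x w) ∈ D ρ th B := by
  have h3 : B x w = ∑ u : V, ∑ u' : V, B (pr ρ th u x) (pr ρ th u' w) := by
    conv_lhs => rw [← sum_pr (ρ := ρ) h h2 x, ← sum_pr (ρ := ρ) h h2 w]
    rw [map_sum, map_sum, Finset.sum_congr rfl fun u _ => LinearMap.sum_apply _ _ _, Finset.sum_comm]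
  rw [h3, map_sum]
  refine Submodule.sum_mem _ fun u _ => ?_
  rw [map_sum]
  refine Submodule.sum_mem _ fun u' _ => ?_
  have h4 := mul_mem_wt B hB (pr_mem (ρ := ρ) h u x) (pr_mem (ρ := ρ) h u' w)
  by_cases huu : u = u'
  · subst huu
    rw [v_add_self] at h4
    rw [pr_self h2 h4]
    by_cases hu : u = 0
    · subst hu
      exact zero_mul_D B hB hJ (pr_mem h 0 x) hw
    · exact mem_D B hu (pr_mem h u x) (pr_mem h u w)
  · rw [pr_ne h2 (fun hh => huu ((add_eq_zero_iff _ _).1 hh.symm)) h4]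
    exact Submodule.zero_mem _

theorem pr_zero_th (h : Sit th O K0) (v : V) (w : W) : pr ρ th 0 (ρ (th v) w - w) = 0 := by
  rw [map_sub, sub_eq_zero, pr_apply, pr_apply]
  congr 1
  refine Fintype.sum_equiv (Equiv.addRight v) _ _ fun v' => ?_
  rw [Equiv.coe_addRight, dt_zero_left, dt_zero_left, h.add, map_mul, Module.End.mul_apply]

/-- products in a space of dimension two -/
theorem exists_gen (B : W →ₗ[F] W →ₗ[F] W) (halt : ∀ x, B x x = 0) {U : Submodule F W}
    (h1 : Module.finrank F U = 2) : ∃ d : W, ∀ x ∈ U, ∀ y ∈ U, B x y ∈ Submodule.span F {d} := by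
  have hanti : ∀ x y, B y x = - B x y := by
    intro x y
    have h3 := halt (x + y)
    simp only [map_add, LinearMap.add_apply, halt, zero_add, add_zero] at h3
    rw [add_comm] at h3
    exact (neg_eq_of_add_eq_zero_right h3).symm
  have : FiniteDimensional F U := Module.finite_of_finrank_pos (by omega)
  let b := Module.finBasisOfFinrankEq F U h1
  refine ⟨B (b 0) (b 1), fun x hx y hy => ?_⟩
  have hx' := b.sum_repr ⟨x, hx⟩
  have hy' := b.sum_repr ⟨y, hy⟩
  rw [Fin.sum_univ_two] at hx' hy'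
  have hx2 : x = b.repr ⟨x, hx⟩ 0 • (b 0 : W) + b.repr ⟨x, hx⟩ 1 • (b 1 : W) := by
    have := congrArg Subtype.val hx'
    simpa only [_root_.Fin.isValue, _root_.Submodule.coe_add, _root_.SetLike.val_smul] using this.symm
  have hy2 : y = b.repr ⟨y, hy⟩ 0 • (b 0 : W) + b.repr ⟨y, hy⟩ 1 • (b 1 : W) := by
    have := congrArg Subtype.val hy'
    simpa only [_root_.Fin.isValue, _root_.Submodule.coe_add, _root_.SetLike.val_smul] using this.symm
  rw [hx2, hy2]
  simp only [map_add, map_smul, LinearMap.add_apply, LinearMap.smul_apply, halt, smul_zero, zero_add, add_zero,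
    hanti (b 0 : W) (b 1 : W)]
  refine Submodule.add_mem _ ?_ ?_
  · exact Submodule.smul_mem _ _ (Submodule.smul_mem _ _
      (Submodule.neg_mem _ (Submodule.mem_span_singleton_self _)))
  · exact Submodule.smul_mem _ _ (Submodule.smul_mem _ _ (Submodule.mem_span_singleton_self _))

/-- **the dimension** -/
theorem finrank_D_le [FiniteDimensional F W] (B : W →ₗ[F] W →ₗ[F] W) (halt : ∀ x, B x x = 0)
    (h1 : ∀ u, u ≠ 0 → Module.finrank F (wt ρ th u) = 2) : Module.finrank F (D ρ th B) ≤ 15 := by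
  classical
  have hex : ∀ u : {u : V // u ≠ 0}, ∃ d : W, ∀ x ∈ wt ρ th u.1, ∀ y ∈ wt ρ th u.1, B x y ∈ Submodule.span F {d} :=
    fun u => exists_gen B halt (h1 u.1 u.2)
  choose d hd using hex
  have hle : D ρ th B ≤ Submodule.span F (Set.range d) := by
    refine Submodule.span_le.2 ?_
    rintro _ ⟨u, hu, x, hx, y, hy, rfl⟩
    have h3 := hd ⟨u, hu⟩ x hx y hy
    exact Submodule.span_mono (by
      rintro _ rfl
      exact ⟨⟨u, hu⟩, rfl⟩) h3
  refine (Submodule.finrank_mono hle).trans ((finrank_range_le_card d).trans ?_)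
  rw [Fintype.card_subtype_compl (fun u : V => u = 0), Fintype.card_subtype_eq, card_V]

end Cfsg.Agent.H512.LinFour.IdealW
end

-- part: H336/LinFour/ClassRow
section
prune_inst 0x21104440400000000000008021000020040000000040000000000000010900000000000000000000000800000008000002080000420000000a000000000400000000000080080000000000000080000000000000000000000000000000000004000000000
set_option linter.all false
open scoped Cfsg.Agent.FastGrp

-- part: H336/LinFour/CentExt
section
/-!
# Lifts of `A` to a central extension commute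

`π : L → K` surjective with central kernel, `Sit th O K0` in `K`: the elements of `L` over `A` commute.
-/

set_option autoImplicit false

namespace Cfsg.Agent.H336.LinFour

open Subgroup

section

variable {L : Type*} [Group L]

/-- the commutator -/
def cm (g h : L) : L := g * h * g⁻¹ * h⁻¹

theorem cm_mul_right {g h h' : L} (hc : ∀ x, cm g h' * x = x * cm g h') : cm g (h * h') = cm g h * cm g h' := by
  unfold cm at *
  calc g * (h * h') * g⁻¹ * (h * h')⁻¹ = g * h * g⁻¹ * (g * h' * g⁻¹ * h'⁻¹) * h⁻¹ := by group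
    _ = g * h * g⁻¹ * (g * h' * g⁻¹ * h'⁻¹ * h⁻¹) := by group
    _ = g * h * g⁻¹ * (h⁻¹ * (g * h' * g⁻¹ * h'⁻¹)) := by rw [hc h⁻¹]
    _ = _ := by group

theorem cm_mul_central {g h z : L} (hz : ∀ x, z * x = x * z) : cm g (z * h) = cm g h := by
  unfold cm
  have h1 := hz (h * g⁻¹ * h⁻¹)
  calc g * (z * h) * g⁻¹ * (z * h)⁻¹ = g * (z * (h * g⁻¹ * h⁻¹)) * z⁻¹ := by group
    _ = g * ((h * g⁻¹ * h⁻¹) * z) * z⁻¹ := by rw [h1]
    _ = _ := by group

theorem cm_central_mul {g h z : L} (hz : ∀ x, z * x = x * z) : cm (z * g) h = cm g h := by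
  unfold cm
  have h1 := hz (g * h * g⁻¹)
  calc z * g * h * (z * g)⁻¹ * h⁻¹ = (z * (g * h * g⁻¹)) * z⁻¹ * h⁻¹ := by group
    _ = ((g * h * g⁻¹) * z) * z⁻¹ * h⁻¹ := by rw [h1]
    _ = _ := by group

theorem cm_eq_one {g h : L} : cm g h = 1 ↔ g * h = h * g := by
  unfold cm
  rw [mul_inv_eq_one, mul_inv_eq_iff_eq_mul]

end

/-- a vector outside the span of two -/
theorem exists_third (u v : V) : ∃ w : V, w ≠ 0 ∧ w ≠ u ∧ w ≠ v ∧ w ≠ u + v := by
  by_contra hc
  push Not at hc
  have hsub : (Finset.univ : Finset V) ⊆ {0, u, v, u + v} := by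
    intro b _
    simp only [Finset.mem_insert, Finset.mem_singleton]
    by_cases h0 : b = 0
    · exact Or.inl h0
    by_cases h2 : b = u
    · exact Or.inr (Or.inl h2)
    by_cases h3 : b = v
    · exact Or.inr (Or.inr (Or.inl h3))
    · exact Or.inr (Or.inr (Or.inr (hc b h0 h2 h3)))
  have h2 := Finset.card_le_card hsub
  have h3 : (Finset.univ : Finset V).card = 16 := by simp [V]
  have h4 : ({0, u, v, u + v} : Finset V).card ≤ 4 := Finset.card_le_four
  omega

namespace Sit

variable {K : Type*} [Group K] {th : V → K} {O K0 : Subgroup K} {L : Type*} [Group L]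

/-- **lifts of `A` to a central extension commute** -/
theorem lifts_comm (h : Sit th O K0) (π : L →* K) (hs : Function.Surjective π)
    (hz : ∀ z, π z = 1 → ∀ g, z * g = g * z) {g g' : L} {u v : V} (hg : π g = th u) (hg' : π g' = th v) :
    g * g' = g' * g := by
  choose x hx using fun v => hs (th v)
  -- lifts differ by central elements
  have hdiff : ∀ (g : L) (v : V), π g = th v → ∃ z, π z = 1 ∧ g = z * x v := fun g v hg =>
    ⟨g * (x v)⁻¹, by rw [map_mul, map_inv, hg, hx, mul_inv_cancel], by group⟩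
  have hcc : ∀ g g' : L, ∀ u v : V, π g = th u → π g' = th v → cm g g' = cm (x u) (x v) := by
    intro g g' u v hg hg'
    obtain ⟨z, hz1, rfl⟩ := hdiff g u hg
    obtain ⟨z', hz1', rfl⟩ := hdiff g' v hg'
    rw [cm_central_mul (hz z hz1), cm_mul_central (hz z' hz1')]
  have hcen : ∀ u v : V, ∀ y, cm (x u) (x v) * y = y * cm (x u) (x v) := by
    intro u v
    apply hz
    unfold cm
    rw [map_mul, map_mul, map_mul, map_inv, map_inv, hx, hx, h.comm, mul_inv_cancel_right, mul_inv_cancel]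
  rw [← cm_eq_one, hcc g g' u v hg hg']
  by_cases hu : u = 0
  · rw [cm_eq_one]
    exact hz _ (by rw [hx, hu, h.zero]) _
  by_cases hv : v = 0
  · rw [cm_eq_one]
    exact (hz _ (by rw [hx, hv, h.zero]) _).symm
  by_cases huv : u = v
  · rw [huv, cm_eq_one]
  have hconst : ∀ u' v' : V, u' ≠ 0 → v' ≠ 0 → u' ≠ v' → cm (x u') (x v') = cm (x u) (x v) := by
    intro u' v' hu' hv' huv'
    obtain ⟨k, -, hk1, hk2⟩ := h.exists_conj_pair hu hv huv hu' hv' huv'
    obtain ⟨T, rfl⟩ := hs k
    have e1 : π (T * x u * T⁻¹) = th u' := by rw [map_mul, map_mul, map_inv, hx, hk1]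
    have e2 : π (T * x v * T⁻¹) = th v' := by rw [map_mul, map_mul, map_inv, hx, hk2]
    rw [← hcc _ _ u' v' e1 e2]
    have : cm (T * x u * T⁻¹) (T * x v * T⁻¹) = T * cm (x u) (x v) * T⁻¹ := by unfold cm; group
    rw [this, ← hcen u v T, mul_inv_cancel_right]
  obtain ⟨w, hw0, hwu, hwv, hwuv⟩ := exists_third u v
  have e1 : cm (x u) (x v * x w) = cm (x u) (x (v + w)) := hcc _ _ u (v + w) (hx u) (by rw [map_mul, hx, hx, h.add])
  rw [cm_mul_right (hcen u w), hconst u w hu hw0 hwu.symm, hconst u (v + w) hu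
    (fun hh => hwv ((add_eq_zero_iff _ _).1 hh).symm)
    (fun hh => hwuv (by rw [hh, add_comm v w, add_assoc, v_add_self, add_zero]))] at e1
  exact mul_eq_left.1 e1

end Sit

end Cfsg.Agent.H336.LinFour
end

-- part: H336/LinFour/LinRep
section
/-!
# A projective representation of `K` restricted to `A` lifts to a linear one
-/

set_option autoImplicit false
set_option linter.unusedSectionVars false

namespace Cfsg.Agent.H336.LinFour

open Subgroup

/-- `L` is a group with a faithful linear representation, `K` its quotient by the scalars -/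
structure Lin (F : Type*) {R K L : Type*} [Field F] [Ring R] [Algebra F R] [Group K] [Group L]
    (π : L →* K) (ι : L →* R) : Prop where
  surj : Function.Surjective π
  ker : ∀ g, π g = 1 ↔ ∃ c : F, ι g = algebraMap F R c
  inj : Function.Injective ι

namespace Lin

variable {F R K L : Type*} [Field F] [Ring R] [Algebra F R] [Nontrivial R] [Group K] [Group L]
  {π : L →* K} {ι : L →* R}

theorem ne_zero (g : L) : ι g ≠ 0 := by
  intro h
  have h1 : ι g * ι g⁻¹ = 1 := by rw [← map_mul, mul_inv_cancel, map_one]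
  rw [h, zero_mul] at h1
  exact zero_ne_one h1

theorem central (H : Lin F π ι) (z : L) (hz : π z = 1) (g : L) : z * g = g * z := by
  obtain ⟨c, hc⟩ := (H.ker z).1 hz
  apply H.inj
  rw [map_mul, map_mul, hc]
  exact Algebra.commutes c _

/-- proportional elements have the same image -/
theorem eq_of_smul (H : Lin F π ι) {g g' : L} {c : F} (h : ι g = c • ι g') : π g = π g' := by
  have h1 : ι (g * g'⁻¹) = algebraMap F R c := by
    rw [map_mul, h, smul_mul_assoc, ← map_mul, mul_inv_cancel, map_one, Algebra.algebraMap_eq_smul_one]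
  have h2 := (H.ker _).2 ⟨c, h1⟩
  rw [map_mul, map_inv, mul_inv_eq_one] at h2
  exact h2

theorem exists_smul (H : Lin F π ι) {g g' : L} (h : π g = π g') : ∃ c : F, c ≠ 0 ∧ ι g = c • ι g' := by
  obtain ⟨c, hc⟩ := (H.ker (g * g'⁻¹)).1 (by rw [map_mul, map_inv, h, mul_inv_cancel])
  refine ⟨c, ?_, ?_⟩
  · rintro rfl
    rw [map_zero] at hc
    exact ne_zero (ι := ι) _ hc
  · have : ι g = ι (g * g'⁻¹) * ι g' := by rw [← map_mul, inv_mul_cancel_right]
    rw [this, hc, Algebra.smul_def]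

/-- **the linear lift of `A`** -/
theorem exists_Y [Finite K] (H : Lin F π ι) {th : V → K} {O K0 : Subgroup K} (h : Sit th O K0) :
    ∃ Y : V → R, (∀ u v, Y (u + v) = Y u * Y v) ∧ Y 0 = 1 ∧
      ∀ v, ∃ g : L, ∃ c : F, c ≠ 0 ∧ π g = th v ∧ Y v = c • ι g := by
  classical
  have hcom := fun {g g' : L} {u v : V} => h.lifts_comm π H.surj H.central (g := g) (g' := g') (u := u) (v := v)
  choose x hx using fun v => H.surj (th v)
  -- squares of lifts are scalars
  have hsq : ∀ (g : L) (v : V), π g = th v → ∃ m : F, m ≠ 0 ∧ ι g * ι g = algebraMap F R m := by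
    intro g v hg
    obtain ⟨c, hc⟩ := (H.ker (g * g)).1 (by rw [map_mul, hg, h.sq])
    refine ⟨c, ?_, by rw [← map_mul, hc]⟩
    rintro rfl
    rw [map_zero] at hc
    exact ne_zero (ι := ι) _ hc
  choose m hm0 hm using fun v => hsq (x v) v (hx v)
  have hinj : ∀ a b : F, algebraMap F R a = algebraMap F R b → a = b := fun a b hab =>
    (algebraMap F R).injective hab
  -- conjugate elements
  have hconj : ∀ v w, v ≠ 0 → w ≠ 0 → ∃ d : F, m v = d * d * m w := by
    intro v w hv hw
    obtain ⟨k, -, hk⟩ := h.exists_conj hv hw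
    obtain ⟨T, rfl⟩ := H.surj k
    have h1 : π (T * x v * T⁻¹) = π (x w) := by rw [map_mul, map_mul, map_inv, hx, hk, hx]
    obtain ⟨c, -, hc⟩ := H.exists_smul h1
    refine ⟨c, hinj _ _ ?_⟩
    have h2 : ι (T * x v * T⁻¹) * ι (T * x v * T⁻¹) = algebraMap F R (m v) := by
      rw [← map_mul]
      have : T * x v * T⁻¹ * (T * x v * T⁻¹) = T * (x v * x v) * T⁻¹ := by group
      rw [this, map_mul, map_mul, map_mul, hm, ← Algebra.commutes, mul_assoc, ← map_mul, mul_inv_cancel, map_one,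
        mul_one]
    rw [← h2, hc, smul_mul_smul_comm, hm, map_mul, Algebra.smul_def]
  have hprod : ∀ u v, ∃ d : F, d ≠ 0 ∧ m u * m v = d * d * m (u + v) := by
    intro u v
    have h1 : π (x u * x v) = π (x (u + v)) := by rw [map_mul, hx, hx, hx, h.add]
    obtain ⟨c, hc0, hc⟩ := H.exists_smul h1
    refine ⟨c, hc0, hinj _ _ ?_⟩
    have h2 : ι (x u * x v) * ι (x u * x v) = algebraMap F R (m u * m v) := by
      rw [← map_mul]
      have : x u * x v * (x u * x v) = (x u * x u) * (x v * x v) := by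
        calc x u * x v * (x u * x v) = x u * (x v * x u) * x v := by group
          _ = x u * (x u * x v) * x v := by rw [hcom (hx v) (hx u)]
          _ = _ := by group
      rw [this, map_mul, map_mul, map_mul, hm, hm, map_mul]
    rw [← h2, hc, smul_mul_smul_comm, hm, map_mul, Algebra.smul_def]
  have hissq : ∀ v, ∃ s : F, s ≠ 0 ∧ s * s * m v = 1 := by
    have key : ∀ v, v ≠ 0 → ∃ s : F, m v = s * s := by
      intro v hv
      obtain ⟨c, hc0, hcv, -, -⟩ := exists_third v v
      have hvc : v + c ≠ 0 := fun hh => hcv ((add_eq_zero_iff _ _).1 hh).symm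
      obtain ⟨d1, hd1, e1⟩ := hprod v c
      obtain ⟨d2, e2⟩ := hconj c v hc0 hv
      obtain ⟨d3, e3⟩ := hconj v (v + c) hv hvc
      refine ⟨d3 * (d2 * m v / d1), ?_⟩
      have e4 : m (v + c) = (d2 * m v / d1) * (d2 * m v / d1) := by
        rw [e2] at e1
        field_simp
        linear_combination -e1
      calc m v = d3 * d3 * m (v + c) := e3
        _ = d3 * d3 * ((d2 * m v / d1) * (d2 * m v / d1)) := by rw [← e4]
        _ = _ := by ring
    intro v
    by_cases hv : v = 0
    · -- `x 0` is a scalar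
      obtain ⟨c, hc⟩ := (H.ker (x v)).1 (by rw [hx, hv, h.zero])
      have hc0 : c ≠ 0 := by
        rintro rfl
        rw [map_zero] at hc
        exact ne_zero (ι := ι) _ hc
      have e1 : m v = c * c := hinj _ _ (by rw [← hm, hc, map_mul])
      exact ⟨c⁻¹, inv_ne_zero hc0, by rw [e1]; field_simp⟩
    · obtain ⟨s, hs⟩ := key v hv
      have hs0 : s ≠ 0 := by
        rintro rfl
        exact hm0 v (by rw [hs]; ring)
      exact ⟨s⁻¹, inv_ne_zero hs0, by rw [hs]; field_simp⟩
  choose s hs0 hs using hissq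
  -- the group of all lifts of square one
  let M : Subgroup Rˣ :=
    { carrier := {r | r * r = 1 ∧ ∃ (g : L) (v : V) (c : F), c ≠ 0 ∧ π g = th v ∧ (r : R) = c • ι g}
      one_mem' := ⟨one_mul _, 1, 0, 1, one_ne_zero, by rw [map_one, h.zero], by simp⟩
      mul_mem' := by
        rintro r r' ⟨hr, g, v, c, hc0, hg, hc⟩ ⟨hr', g', v', c', hc0', hg', hc'⟩
        have e1 : r * r' = r' * r := by
          apply Units.ext
          rw [Units.val_mul, Units.val_mul, hc, hc', smul_mul_smul_comm, smul_mul_smul_comm, ← map_mul, ← map_mul,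
            hcom hg hg', mul_comm c c']
        refine ⟨?_, g * g', v + v', c * c', mul_ne_zero hc0 hc0', by rw [map_mul, hg, hg', h.add], ?_⟩
        · calc r * r' * (r * r') = r * (r' * r) * r' := by group
            _ = r * (r * r') * r' := by rw [e1]
            _ = (r * r) * (r' * r') := by group
            _ = 1 := by rw [hr, hr', one_mul]
        · rw [Units.val_mul, hc, hc', smul_mul_smul_comm, map_mul]
      inv_mem' := by
        rintro r ⟨hr, g, v, c, hc0, hg, hc⟩
        have : r⁻¹ = r := inv_eq_of_mul_eq_one_left hr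
        rw [this]
        exact ⟨hr, g, v, c, hc0, hg, hc⟩ }
  have hMsq : ∀ r : M, r * r = 1 := fun r => Subtype.ext r.2.1
  have hMcomm : ∀ r r' : M, r * r' = r' * r := by
    intro r r'
    have h1 := hMsq (r * r')
    have h2 := hMsq r
    have h3 := hMsq r'
    calc r * r' = (r * r')⁻¹ := (inv_eq_of_mul_eq_one_left h1).symm
      _ = r'⁻¹ * r⁻¹ := mul_inv_rev _ _
      _ = _ := by rw [inv_eq_of_mul_eq_one_left h2, inv_eq_of_mul_eq_one_left h3]
  let _ : CommGroup M := { (inferInstance : Group M) with mul_comm := hMcomm }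
  have hch : ∀ r : M, ∃ v : V, ∃ (g : L) (c : F), c ≠ 0 ∧ π g = th v ∧ ((r : Rˣ) : R) = c • ι g := by
    rintro ⟨r, hr, g, v, c, hc⟩
    exact ⟨v, g, c, hc⟩
  choose q hq using hch
  have huniq : ∀ r : M, ∀ v : V, ∀ (g : L) (c : F), c ≠ 0 → π g = th v → ((r : Rˣ) : R) = c • ι g → q r = v := by
    intro r v g c hc0 hg hc
    obtain ⟨g', c', hc0', hg', hc'⟩ := hq r
    apply h.inj
    rw [← hg', ← hg]
    apply H.eq_of_smul (c := c'⁻¹ * c)
    rw [mul_smul, ← hc, hc', inv_smul_smul₀ hc0']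
  have hqadd : ∀ r r' : M, q (r * r') = q r + q r' := by
    intro r r'
    obtain ⟨g, c, hc0, hg, hc⟩ := hq r
    obtain ⟨g', c', hc0', hg', hc'⟩ := hq r'
    refine huniq _ _ (g * g') (c * c') (mul_ne_zero hc0 hc0') (by rw [map_mul, hg, hg', h.add]) ?_
    rw [Subgroup.coe_mul, Units.val_mul, hc, hc', smul_mul_smul_comm, map_mul]
  -- as vector spaces
  have h2z : ∀ a : Additive M, (2 : ℕ) • a = 0 := by
    intro a
    rw [two_nsmul]
    exact hMsq a.toMul
  let _ : Module (ZMod 2) (Additive M) := AddCommGroup.zmodModule h2z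
  let Q : Additive M →+ V := AddMonoidHom.mk' (fun a => q a.toMul) (fun a b => hqadd _ _)
  let Ql : Additive M →ₗ[ZMod 2] V := Q.toZModLinearMap 2
  have hQs : Function.Surjective Ql := by
    intro v
    have e1 : (s v • ι (x v)) * (s v • ι (x v)) = 1 := by
      rw [smul_mul_smul_comm, hm, Algebra.algebraMap_eq_smul_one, smul_smul, hs, one_smul]
    let r : Rˣ := ⟨s v • ι (x v), s v • ι (x v), e1, e1⟩
    have hr : r ∈ M := ⟨Units.ext e1, x v, v, s v, hs0 v, hx v, rfl⟩
    exact ⟨Additive.ofMul ⟨r, hr⟩, huniq ⟨r, hr⟩ v (x v) (s v) (hs0 v) (hx v) rfl⟩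
  obtain ⟨σ, hσ⟩ := Ql.exists_rightInverse_of_surjective (LinearMap.range_eq_top.2 hQs)
  refine ⟨fun v => (((σ v).toMul : M) : Rˣ), fun u v => ?_, ?_, fun v => ?_⟩
  · change ((((σ (u + v)).toMul : M) : Rˣ) : R) = (((σ u).toMul : M) : Rˣ) * (((σ v).toMul : M) : Rˣ)
    rw [map_add, toMul_add, Subgroup.coe_mul, Units.val_mul]
  · change ((((σ 0).toMul : M) : Rˣ) : R) = 1
    rw [map_zero, toMul_zero]; rfl
  · obtain ⟨g, c, hc0, hg, hc⟩ := hq (σ v).toMul
    have e : q (σ v).toMul = v := LinearMap.congr_fun hσ v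
    exact ⟨g, c, hc0, by rw [hg, e], hc⟩

end Lin

end Cfsg.Agent.H336.LinFour
end

-- part: H336/LinFour/Count
section
/-!
# Counting the weights
-/

set_option autoImplicit false
set_option linter.unusedSectionVars false

namespace Cfsg.Agent.H336.LinFour

open Subgroup Cfsg.Agent.H336.LinFour.Wt

/-- the dual action -/
def dact (s : S) (u : V) : V := ((s⁻¹ : S) : Matrix (Fin 4) (Fin 4) (ZMod 2)).transpose.mulVec u

theorem dt_eq_dotProduct (c v : V) : dt c v = c ⬝ᵥ v := by
  rw [dt_sum]; rfl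

theorem dt_dact (s : S) (u v : V) : dt (dact s u) (act s v) = dt u v := by
  rw [dt_eq_dotProduct, dt_eq_dotProduct]
  unfold dact
  rw [Matrix.mulVec_transpose, ← Matrix.dotProduct_mulVec]
  congr 1
  change act s⁻¹ (act s v) = v
  rw [← act_mul, inv_mul_cancel, act_one]

theorem dact_eq {s : S} {u w : V} (h : ∀ v, dt w (act s v) = dt u v) : dact s u = w := by
  rw [← add_eq_zero_iff]
  apply eq_zero_of_dt
  intro y
  have h1 : y = act s (act s⁻¹ y) := by rw [← act_mul, mul_inv_cancel, act_one]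
  rw [dt_comm, dt_add_left, h1, dt_dact, h, z2_add_self]

theorem exists_ann (a : V) : ∃ c : V, c ≠ 0 ∧ dt c a = 0 := by
  obtain ⟨b, hb0, hba, -, -⟩ := exists_third a a
  obtain ⟨c, h1, h2⟩ := exists_dt_one_zero hb0 hba
  refine ⟨c, ?_, h2⟩
  rintro rfl
  rw [dt_zero_left] at h1
  exact absurd h1 (by decide)

/-- the weights -/
abbrev X (F : Type*) {R : Type*} [Field F] [Ring R] [Algebra F R] (Y : V → R) := {u : V // P F Y u ≠ 0}

section

variable {F R : Type*} [Field F] [Ring R] [Algebra F R] {Y : V → R}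

open Classical in
/-- extension of a sign function -/
noncomputable def ex (e : X F Y → ℤˣ) (u : V) : F := if hu : P F Y u ≠ 0 then ((e ⟨u, hu⟩ : ℤ) : F) else 1

theorem ex_mul (e e' : X F Y → ℤˣ) (u : V) : ex (e * e') u = ex e u * ex e' u := by
  unfold ex
  split_ifs <;> simp

theorem ex_one (u : V) : ex (1 : X F Y → ℤˣ) u = 1 := by
  unfold ex
  split_ifs <;> simp

theorem ex_apply (e : X F Y → ℤˣ) (u : X F Y) : ex e u = ((e u : ℤ) : F) := by
  unfold ex
  rw [dif_pos u.2]

theorem ex_cases (e : X F Y → ℤˣ) (u : V) : ex e u = 1 ∨ ex e u = -1 := by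
  unfold ex
  split_ifs with hu
  · rcases Int.units_eq_one_or (e ⟨u, hu⟩) with h | h <;> rw [h] <;> simp
  · exact Or.inl rfl

theorem unit_eq (h2 : (2 : F) ≠ 0) {a b : ℤˣ} (h : ((a : ℤ) : F) = ((b : ℤ) : F)) : a = b := by
  have h3 : (1 : F) ≠ -1 := fun h => h2 (by linear_combination h)
  rcases Int.units_eq_one_or a with rfl | rfl <;> rcases Int.units_eq_one_or b with rfl | rfl
  · rfl
  · exact absurd (by simpa using h) h3
  · exact absurd (by simpa using h.symm) h3
  · rfl

/-- the sign elements -/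
noncomputable def Ds (e : X F Y → ℤˣ) : R := D F Y (ex e)

theorem Ds_mul (h2 : (2 : F) ≠ 0) (hY : ∀ u v, Y (u + v) = Y u * Y v) (e e' : X F Y → ℤˣ) :
    Ds (e * e') = Ds e * Ds e' := by
  unfold Ds
  rw [D_mul F h2 hY]
  congr 1
  funext u
  exact ex_mul e e' u

theorem Ds_one (h2 : (2 : F) ≠ 0) (hY0 : Y 0 = 1) : Ds (1 : X F Y → ℤˣ) = 1 := by
  unfold Ds
  rw [show ex (1 : X F Y → ℤˣ) = fun _ => (1 : F) from funext ex_one]
  exact D_one F h2 hY0

theorem Ds_sq (h2 : (2 : F) ≠ 0) (hY : ∀ u v, Y (u + v) = Y u * Y v) (hY0 : Y 0 = 1) (e : X F Y → ℤˣ) :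
    Ds e * Ds e = 1 := by
  rw [← Ds_mul h2 hY]
  have : e * e = 1 := by
    funext u
    exact Int.units_mul_self _
  rw [this, Ds_one h2 hY0]

/-- the sign functions whose element lies in the image of `L` -/
def Hs {L : Type*} [Group L] (h2 : (2 : F) ≠ 0) (hY : ∀ u v, Y (u + v) = Y u * Y v) (hY0 : Y 0 = 1) (ι : L →* R) :
    Subgroup (X F Y → ℤˣ) where
  carrier := {e | ∃ g : L, ι g = Ds e}
  one_mem' := ⟨1, by rw [map_one, Ds_one h2 hY0]⟩
  mul_mem' := by
    rintro e e' ⟨g, hg⟩ ⟨g', hg'⟩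
    exact ⟨g * g', by rw [map_mul, hg, hg', Ds_mul h2 hY]⟩
  inv_mem' := by
    rintro e ⟨g, hg⟩
    refine ⟨g, ?_⟩
    have : e⁻¹ = e := by
      funext u
      exact Int.units_inv_eq_self _
    rw [this, hg]

end

namespace Lin

variable {F R K L : Type*} [Field F] [Ring R] [Algebra F R] [Nontrivial R] [Group K] [Group L]
  {π : L →* K} {ι : L →* R} {th : V → K} {O K0 : Subgroup K} {Y : V → R}

theorem nonempty_X (h2 : (2 : F) ≠ 0) (hY0 : Y 0 = 1) : Nonempty (X F Y) := by
  by_contra hne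
  rw [nonempty_subtype] at hne
  push Not at hne
  have h1 := sum_P F h2 hY0
  rw [Finset.sum_eq_zero fun u _ => hne u] at h1
  exact zero_ne_one h1

theorem card_Hs_le (H : Lin F π ι) (h : Sit th O K0) (h2 : (2 : F) ≠ 0) (hY : ∀ u v, Y (u + v) = Y u * Y v)
    (hY0 : Y 0 = 1) (hYx : ∀ v, ∃ g : L, ∃ c : F, c ≠ 0 ∧ π g = th v ∧ Y v = c • ι g) :
    Nat.card (Hs h2 hY hY0 ι) ≤ 32 := by
  obtain ⟨x0⟩ := nonempty_X (F := F) h2 hY0
  have hA : ∀ e : Hs h2 hY hY0 ι, ∃ g : L, ι g = Ds e.1 := fun e => e.2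
  choose g hg using hA
  have hgA : ∀ e, π (g e) ∈ h.A := by
    intro e
    refine h.mem_of_mul_self (fun v => ?_) ?_
    · obtain ⟨x, c, hc0, hx, hc⟩ := hYx v
      rw [← hx, ← map_mul, ← map_mul]
      congr 1
      apply H.inj
      rw [map_mul, map_mul, hg]
      have h1 := D_comm F hY (ex e.1) v
      rw [hc, mul_smul_comm, smul_mul_assoc] at h1
      have h3 := congrArg (fun r => c⁻¹ • r) h1
      simp only [inv_smul_smul₀ hc0] at h3
      exact h3
    · rw [← map_mul]
      have h1 : g e * g e = 1 := H.inj (by rw [map_mul, hg, Ds_sq h2 hY hY0, map_one])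
      rw [h1, map_one]
  have hinj : Function.Injective (fun e : Hs h2 hY hY0 ι => ((⟨π (g e), hgA e⟩ : h.A), e.1 x0)) := by
    intro e e' hee
    have e1 : π (g e) = π (g e') := congrArg Subtype.val (Prod.ext_iff.1 hee).1
    have e2 : e.1 x0 = e'.1 x0 := (Prod.ext_iff.1 hee).2
    obtain ⟨c, -, hc⟩ := H.exists_smul e1
    rw [hg, hg] at hc
    have e3 : Ds (e.1 * e'.1) = algebraMap F R c := by
      rw [Ds_mul h2 hY, hc, smul_mul_assoc, Ds_sq h2 hY hY0, Algebra.algebraMap_eq_smul_one]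
    have e4 : ∀ u : X F Y, ex (e.1 * e'.1) u = c := fun u => D_scalar F h2 hY e3 u.2
    have e5 : c = 1 := by
      rw [← e4 x0, ex_apply, Pi.mul_apply, e2, Int.units_mul_self]; simp
    apply Subtype.ext
    funext u
    have e6 := e4 u
    rw [ex_apply, e5, Pi.mul_apply] at e6
    have e7 : e.1 u * e'.1 u = 1 := unit_eq h2 (by rw [e6]; simp)
    calc e.1 u = e.1 u * e'.1 u * e'.1 u := by rw [mul_assoc, Int.units_mul_self, mul_one]
      _ = e'.1 u := by rw [e7, one_mul]
  have hfin : Finite h.A := Nat.finite_of_card_ne_zero (by rw [h.card_A]; norm_num)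
  have h3 := Nat.card_le_card_of_injective _ hinj
  have h4 : Nat.card ℤˣ = 2 := by rw [Nat.card_eq_fintype_card, Fintype.card_units_int]
  rw [Nat.card_prod, h.card_A, h4] at h3
  exact h3

theorem card_X_le (H : Lin F π ι) (h : Sit th O K0) (h2 : (2 : F) ≠ 0) (hY : ∀ u v, Y (u + v) = Y u * Y v)
    (hY0 : Y 0 = 1) (hYx : ∀ v, ∃ g : L, ∃ c : F, c ≠ 0 ∧ π g = th v ∧ Y v = c • ι g)
    (hidx : (Hs (F := F) h2 hY hY0 ι).index ≤ 4) : Nat.card (X F Y) ≤ 7 := by
  classical
  have h1 := H.card_Hs_le h h2 hY hY0 hYx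
  have h3 := (Hs (F := F) h2 hY hY0 ι).card_mul_index
  have h4 : Nat.card (X F Y → ℤˣ) = 2 ^ Nat.card (X F Y) := by
    rw [Nat.card_fun, Nat.card_eq_fintype_card (α := ℤˣ), Fintype.card_units_int]
  rw [h4] at h3
  have h5 : 2 ^ Nat.card (X F Y) ≤ 2 ^ 7 := by
    rw [← h3]
    calc _ ≤ 32 * 4 := Nat.mul_le_mul h1 hidx
      _ = 2 ^ 7 := by norm_num
  exact (Nat.pow_le_pow_iff_right (by norm_num)).1 h5

/-- conjugation of the idempotents -/
theorem conj_P (H : Lin F π ι) (h : Sit th O K0) (h2 : (2 : F) ≠ 0) (hY : ∀ u v, Y (u + v) = Y u * Y v)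
    (hY0 : Y 0 = 1) (hYx : ∀ v, ∃ g : L, ∃ c : F, c ≠ 0 ∧ π g = th v ∧ Y v = c • ι g)
    (g : L) (hg : π g ∈ normalizer (h.A : Set K)) :
    ∃ k : V, ∀ u, ι g * P F Y u * ι g⁻¹ = P F Y (dact (h.rep ⟨π g, hg⟩) u + k) := by
  set s := h.rep ⟨π g, hg⟩ with hs
  have hYsq : ∀ v, Y v * Y v = 1 := fun v => by rw [← hY, v_add_self, hY0]
  have hgg : ι g⁻¹ * ι g = 1 := by rw [← map_mul, inv_mul_cancel, map_one]
  have hgg' : ι g * ι g⁻¹ = 1 := by rw [← map_mul, mul_inv_cancel, map_one]
  have h1 : ∀ v, ∃ f : ZMod 2, ι g * Y v * ι g⁻¹ = sg F f • Y (act s v) := by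
    intro v
    obtain ⟨x, c, hc0, hx, hc⟩ := hYx v
    obtain ⟨x', c', hc0', hx', hc'⟩ := hYx (act s v)
    have e1 : π (g * x * g⁻¹) = π x' := by
      rw [map_mul, map_mul, map_inv, hx, hx']
      exact h.rep_spec ⟨π g, hg⟩ v
    obtain ⟨d, -, hd⟩ := H.exists_smul e1
    have e2 : ι g * Y v * ι g⁻¹ = (c * d * c'⁻¹) • Y (act s v) := by
      rw [hc, hc', mul_smul_comm, smul_mul_assoc, ← map_mul, ← map_mul, hd, smul_smul, smul_smul]
      congr 1
      field_simp
    have e3 : (c * d * c'⁻¹) * (c * d * c'⁻¹) = 1 := by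
      have e4 : (ι g * Y v * ι g⁻¹) * (ι g * Y v * ι g⁻¹) = 1 := by
        calc (ι g * Y v * ι g⁻¹) * (ι g * Y v * ι g⁻¹) = ι g * Y v * (ι g⁻¹ * ι g) * (Y v * ι g⁻¹) := by
              simp only [mul_assoc]
          _ = ι g * (Y v * Y v) * ι g⁻¹ := by rw [hgg]; simp only [mul_assoc, mul_one, one_mul]
          _ = 1 := by rw [hYsq, mul_one, hgg']
      rw [e2, smul_mul_smul_comm, hYsq, ← Algebra.algebraMap_eq_smul_one] at e4
      exact (algebraMap F R).injective (e4.trans (map_one _).symm)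
    rcases mul_self_eq_one_iff.1 e3 with e5 | e5
    · exact ⟨0, by rw [e2, e5, sg_zero]⟩
    · exact ⟨1, by rw [e2, e5, sg_one]⟩
  choose f hf using h1
  have hY1 : ∀ v, Y v ≠ 0 := fun v hv => by
    have := hYsq v
    rw [hv, zero_mul] at this
    exact zero_ne_one this
  have hfadd : ∀ u v, f (u + v) = f u + f v := by
    intro u v
    apply sg_inj F h2
    have e1 := hf (u + v)
    have e2 : ι g * Y (u + v) * ι g⁻¹ = (ι g * Y u * ι g⁻¹) * (ι g * Y v * ι g⁻¹) := by
      rw [hY]
      calc ι g * (Y u * Y v) * ι g⁻¹ = ι g * Y u * 1 * (Y v * ι g⁻¹) := by simp only [mul_assoc, mul_one, one_mul]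
        _ = ι g * Y u * (ι g⁻¹ * ι g) * (Y v * ι g⁻¹) := by rw [hgg]
        _ = _ := by simp only [mul_assoc]
    rw [e2, hf, hf, smul_mul_smul_comm, ← hY, ← act_add] at e1
    rw [sg_add]
    rw [← sub_eq_zero, ← sub_smul] at e1
    rcases smul_eq_zero.1 e1 with h3 | h3
    · exact (sub_eq_zero.1 h3).symm
    · exact absurd h3 (hY1 _)
  obtain ⟨k, hk⟩ := exists_dual (fun w => f (act s⁻¹ w)) (fun u v => by rw [act_add, hfadd])
  have hk' : ∀ v, f v = dt k (act s v) := by
    intro v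
    have := hk (act s v)
    rwa [← act_mul, inv_mul_cancel, act_one] at this
  refine ⟨k, fun u => ?_⟩
  unfold P
  rw [mul_smul_comm, smul_mul_assoc, Finset.mul_sum, Finset.sum_mul]
  congr 1
  rw [← Equiv.sum_comp (actE s).toEquiv (fun w => sg F (dt (dact s u + k) w) • Y w)]
  refine Finset.sum_congr rfl fun v _ => ?_
  change ι g * sg F (dt u v) • Y v * ι g⁻¹ = sg F (dt (dact s u + k) (act s v)) • Y (act s v)
  rw [mul_smul_comm, smul_mul_assoc, hf, smul_smul, dt_add_left, sg_add, hk', dt_dact]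

/-- **no configuration with few weights** -/
theorem false_of_card_X [Finite K] [Finite L] (H : Lin F π ι) (h : Sit th O K0) (h2 : (2 : F) ≠ 0)
    (hY : ∀ u v, Y (u + v) = Y u * Y v) (hY0 : Y 0 = 1)
    (hYx : ∀ v, ∃ g : L, ∃ c : F, c ≠ 0 ∧ π g = th v ∧ Y v = c • ι g)
    (hX : Nat.card (X F Y) ≤ 7) : False := by
  classical
  -- the set of idempotents
  let Z : Type _ := {r : R // r ≠ 0 ∧ ∃ u, P F Y u = r}
  have hZf : Finite Z := by
    refine Finite.of_surjective (α := X F Y) (fun u => (⟨P F Y u, u.2, u, rfl⟩ : Z)) ?_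
    rintro ⟨r, hr, u, rfl⟩
    exact ⟨⟨u, hr⟩, rfl⟩
  have hZX : Nat.card Z ≤ Nat.card (X F Y) := by
    refine Nat.card_le_card_of_surjective (fun u : X F Y => (⟨P F Y u, u.2, u, rfl⟩ : Z)) ?_
    rintro ⟨r, hr, u, rfl⟩
    exact ⟨⟨u, hr⟩, rfl⟩
  let N := (normalizer (h.A : Set K)).comap π
  have hgg : ∀ g, ι g⁻¹ * ι g = 1 := fun g => by rw [← map_mul, inv_mul_cancel, map_one]
  have hgg' : ∀ g, ι g * ι g⁻¹ = 1 := fun g => by rw [← map_mul, mul_inv_cancel, map_one]
  let _ : MulAction N Z :=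
    { smul := fun g r => ⟨ι g * r * ι (g : L)⁻¹, by
        constructor
        · intro h0
          apply r.2.1
          have : (r : R) = ι (g : L)⁻¹ * (ι g * r * ι (g : L)⁻¹) * ι g := by
            calc (r : R) = (ι (g : L)⁻¹ * ι g) * r * (ι (g : L)⁻¹ * ι g) := by rw [hgg, one_mul, mul_one]
              _ = _ := by simp only [mul_assoc]
          rw [this, h0, mul_zero, zero_mul]
        · obtain ⟨-, u, hu⟩ := r.2
          obtain ⟨k, hk⟩ := H.conj_P h h2 hY hY0 hYx g g.2
          exact ⟨_, by rw [← hu, hk u]⟩⟩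
      one_smul := fun r => Subtype.ext (by
        change ι ((1 : N) : L) * r * ι ((1 : N) : L)⁻¹ = r
        rw [Subgroup.coe_one, inv_one, map_one, one_mul, mul_one])
      mul_smul := fun g g' r => Subtype.ext (by
        change ι ((g * g' : N) : L) * r * ι ((g * g' : N) : L)⁻¹ = ι g * (ι g' * r * ι (g' : L)⁻¹) * ι (g : L)⁻¹
        rw [Subgroup.coe_mul, mul_inv_rev, map_mul, map_mul]
        simp only [mul_assoc]) }
  have hsmul : ∀ (g : N) (r : Z), ((g • r : Z) : R) = ι g * r * ι (g : L)⁻¹ := fun _ _ => rfl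
  let ψ : N →* Equiv.Perm Z := MulAction.toPermHom N Z
  let ρ : N →* S := h.rep.comp ((π.comp N.subtype).codRestrict (normalizer (h.A : Set K)) (fun g => g.2))
  have hρ : ∀ g : N, ρ g = h.rep ⟨π g, g.2⟩ := fun _ => rfl
  have hρs : Function.Surjective ρ := by
    intro s
    obtain ⟨n, hn⟩ := h.rep_surjective s
    obtain ⟨g, hg⟩ := H.surj n
    have hgN : π g ∈ normalizer (h.A : Set K) := by rw [hg]; exact n.2
    refine ⟨⟨g, hgN⟩, ?_⟩
    rw [hρ, ← hn]
    congr 1
    exact Subtype.ext hg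
  have hsimple := isSimple_S
  rcases (Subgroup.Normal.map (inferInstance : ψ.ker.Normal) ρ hρs).eq_bot_or_eq_top with h1 | h1
  · -- the order of `S` is at most `9!`
    rw [Subgroup.map_eq_bot_iff] at h1
    have hle : Nat.card S ≤ Nat.card (Equiv.Perm Z) := by
      choose σ hσ using hρs
      refine Nat.card_le_card_of_injective (fun s => ψ (σ s)) fun s t hst => ?_
      have h3 : σ s * (σ t)⁻¹ ∈ ψ.ker := by
        rw [MonoidHom.mem_ker, map_mul, map_inv, mul_inv_eq_one]; exact hst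
      have h4 := h1 h3
      rw [MonoidHom.mem_ker, map_mul, map_inv, hσ, hσ, mul_inv_eq_one] at h4
      exact h4
    have h3 : Nat.card (Equiv.Perm Z) = (Nat.card Z).factorial := by
      have := Fintype.ofFinite Z
      rw [Nat.card_eq_fintype_card, Fintype.card_perm, Nat.card_eq_fintype_card]
    rw [h3, card_S] at hle
    have h4 : (Nat.card Z).factorial ≤ (7).factorial := Nat.factorial_le (hZX.trans hX)
    have h5 : (7).factorial = 5040 := by decide
    omega
  · -- all weights are equal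
    have hall : ∀ u u', P F Y u ≠ 0 → P F Y u' ≠ 0 → u = u' := by
      intro u u' hu hu'
      rw [← add_eq_zero_iff]
      apply eq_zero_of_dt
      intro a
      rw [dt_comm]
      obtain ⟨c, hc0, hca⟩ := exists_ann a
      obtain ⟨t, ht⟩ := exists_act (tv c a hca)
      have h3 : t ∈ (⊤ : Subgroup S) := trivial
      rw [← h1] at h3
      obtain ⟨g, hgk, hg⟩ := h3
      obtain ⟨k, hk⟩ := H.conj_P h h2 hY hY0 hYx g g.2
      have hfix : ∀ w, P F Y w ≠ 0 → dact (ρ g) w + k = w := by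
        intro w hw
        have h4 : ψ g (⟨P F Y w, hw, w, rfl⟩ : Z) = ⟨P F Y w, hw, w, rfl⟩ := by
          rw [MonoidHom.mem_ker.1 hgk]; rfl
        have h5 := congrArg Subtype.val h4
        change ι g * P F Y w * ι (g : L)⁻¹ = P F Y w at h5
        rw [hk w] at h5
        exact (P_inj F h2 hY hw h5.symm).symm
      have htr : ∀ w, dact t w = w + dt w a • c := by
        intro w
        refine dact_eq fun v => ?_
        have e : dt (w + dt w a • c) a = dt w a := by rw [dt_add_left, dt_smul_left, hca, mul_zero, add_zero]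
        rw [ht, dt_tv, e, add_assoc, v_add_self, add_zero]
      have e1 := hfix u hu
      have e2 := hfix u' hu'
      rw [hg, htr] at e1 e2
      have e3 : dt u a • c = k := by
        have : u + (u + dt u a • c + k) = u + u := by rw [e1]
        rw [v_add_self, add_assoc u, self_add_add] at this
        exact (add_eq_zero_iff _ _).1 this
      have e4 : dt u' a • c = k := by
        have : u' + (u' + dt u' a • c + k) = u' + u' := by rw [e2]
        rw [v_add_self, add_assoc u', self_add_add] at this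
        exact (add_eq_zero_iff _ _).1 this
      rw [dt_add_left]
      have e5 : (dt u a + dt u' a) • c = 0 := by rw [add_smul, e3, e4, v_add_self]
      rcases smul_eq_zero.1 e5 with h6 | h6
      · exact h6
      · exact absurd h6 hc0
    -- then `A` acts by scalars
    obtain ⟨⟨u0, hu0⟩⟩ := nonempty_X (F := F) h2 hY0
    have hone : P F Y u0 = 1 := by
      rw [← sum_P F h2 hY0, Finset.sum_eq_single u0]
      · intro v _ hv
        by_contra h3
        exact hv (hall v u0 h3 hu0)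
      · intro h3; exact absurd (Finset.mem_univ _) h3
    have hth : ∀ v, th v = 1 := by
      intro v
      obtain ⟨x, c, hc0, hx, hc⟩ := hYx v
      have h3 := P_mul_Y F hY u0 v
      rw [hone, one_mul, hc] at h3
      rw [← hx, H.ker]
      refine ⟨c⁻¹ * sg F (dt u0 v), ?_⟩
      rw [Algebra.algebraMap_eq_smul_one, mul_smul, ← h3, inv_smul_smul₀ hc0]
    obtain ⟨v, hv⟩ := exists_ne (0 : V)
    exact hv ((h.eq_one_iff v).1 (hth v))

end Lin

end Cfsg.Agent.H336.LinFour
end

-- part: H336/LinFour/FormData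
section
/-!
# Matrix groups preserving a form: the sign elements are isometries; the main contradiction
-/

set_option autoImplicit false
set_option linter.unusedSectionVars false

namespace Cfsg.Agent.H336.LinFour

open Subgroup Matrix Cfsg.Agent.H336.LinFour.Wt

/-- **main contradiction**, from a bound of the index of the sign functions realised in `L` -/
theorem Lin.false_of_idx {F R K L : Type*} [Field F] [Ring R] [Algebra F R] [Nontrivial R] [Group K] [Group L]
    [Finite K] [Finite L] {π : L →* K} {ι : L →* R} (H : Lin F π ι) {th : V → K} {O K0 : Subgroup K}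
    (h : Sit th O K0) (h2 : (2 : F) ≠ 0)
    (hidx : ∀ (Y : V → R) (hY : ∀ u v, Y (u + v) = Y u * Y v) (hY0 : Y 0 = 1),
      (∀ v, ∃ g : L, ∃ c : F, c ≠ 0 ∧ π g = th v ∧ Y v = c • ι g) →
      (Hs (F := F) h2 hY hY0 ι).index ≤ 4) : False := by
  obtain ⟨Y, hY, hY0, hYx⟩ := H.exists_Y h
  exact H.false_of_card_X h h2 hY hY0 hYx (H.card_X_le h h2 hY hY0 hYx (hidx Y hY hY0 hYx))

/-- `K = L / Z(L)` -/
theorem Lin.mk_quot {F R L : Type*} [Field F] [Ring R] [Algebra F R] [Group L] (ι : L →* R)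
    (hinj : Function.Injective ι) (hz : ∀ z ∈ center L, ∃ c : F, ι z = algebraMap F R c) :
    Lin F (QuotientGroup.mk' (center L)) ι where
  surj := QuotientGroup.mk'_surjective _
  ker g := by
    rw [← MonoidHom.mem_ker, QuotientGroup.ker_mk']
    refine ⟨hz g, ?_⟩
    rintro ⟨c, hc⟩
    rw [mem_center_iff]
    intro x
    apply hinj
    rw [map_mul, map_mul, hc]
    exact (Algebra.commutes c _).symm
  inj := hinj

theorem index_le_of_hom {E Q : Type*} [Group E] [Finite E] [Group Q] (θ : E →* Q) (H : Subgroup E)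
    (hker : θ.ker ≤ H) {n : ℕ} (hn : Nat.card θ.range ≤ n) : H.index ≤ n := by
  have h1 : H.index ∣ θ.ker.index := index_dvd_of_le hker
  have h0 : 0 < θ.ker.index := Nat.pos_of_ne_zero Subgroup.index_ne_zero_of_finite
  rw [Subgroup.index_ker] at h1 h0
  exact (Nat.le_of_dvd h0 h1).trans hn

/-- the sign elements as units -/
noncomputable def dsU {F R : Type*} [Field F] [Ring R] [Algebra F R] {Y : V → R} (h2 : (2 : F) ≠ 0)
    (hY : ∀ u v, Y (u + v) = Y u * Y v) (hY0 : Y 0 = 1) : (X F Y → ℤˣ) →* Rˣ where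
  toFun e := ⟨Ds e, Ds e, Ds_sq h2 hY hY0 e, Ds_sq h2 hY hY0 e⟩
  map_one' := Units.ext (Ds_one h2 hY0)
  map_mul' e e' := Units.ext (Ds_mul h2 hY e e')

/-- a sesquilinear form -/
structure SForm {F κ : Type*} [Field F] (f : (κ → F) → (κ → F) → F) (σ : F → F) : Prop where
  add_left : ∀ u v w, f (u + v) w = f u w + f v w
  add_right : ∀ u v w, f u (v + w) = f u v + f u w
  smul_left : ∀ c u v, f (c • u) v = c * f u v
  smul_right : ∀ c u v, f u (c • v) = σ c * f u v
  ne : ∃ u v, f u v ≠ 0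

namespace SForm

variable {F κ : Type*} [Field F] {f : (κ → F) → (κ → F) → F} {σ : F → F}

/-- the field automorphism -/
noncomputable def hom (S : SForm f σ) : F →+* F where
  toFun := σ
  map_one' := by
    obtain ⟨u, v, h⟩ := S.ne
    have := S.smul_right 1 u v
    rw [one_smul] at this
    exact mul_right_cancel₀ h (by rw [← this, one_mul])
  map_mul' a b := by
    obtain ⟨u, v, h⟩ := S.ne
    apply mul_right_cancel₀ h
    rw [← S.smul_right, mul_smul, S.smul_right, S.smul_right, mul_assoc]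
  map_zero' := by
    obtain ⟨u, v, h⟩ := S.ne
    have h0 := S.add_right u 0 0
    rw [add_zero] at h0
    have h1 : f u 0 = 0 := left_eq_add.1 h0
    have := S.smul_right 0 u v
    rw [zero_smul, h1] at this
    exact (mul_eq_zero.1 this.symm).resolve_right h
  map_add' a b := by
    obtain ⟨u, v, h⟩ := S.ne
    apply mul_right_cancel₀ h
    rw [add_mul, ← S.smul_right, ← S.smul_right, ← S.smul_right, add_smul, S.add_right]

theorem hom_apply (S : SForm f σ) (c : F) : S.hom c = σ c := rfl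

variable [Fintype κ] [DecidableEq κ]

theorem sum_left (S : SForm f σ) {T : Type*} (s : Finset T) (g : T → (κ → F)) (v : κ → F) :
    f (∑ i ∈ s, g i) v = ∑ i ∈ s, f (g i) v := by
  classical
  have h0 : f 0 v = 0 := by
    have h0 := S.add_left 0 0 v
    rw [add_zero] at h0
    exact left_eq_add.1 h0
  induction s using Finset.induction_on with
  | empty => simpa using h0
  | insert a s ha ih => rw [Finset.sum_insert ha, Finset.sum_insert ha, S.add_left, ih]

theorem sum_right (S : SForm f σ) {T : Type*} (s : Finset T) (g : T → (κ → F)) (u : κ → F) :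
    f u (∑ i ∈ s, g i) = ∑ i ∈ s, f u (g i) := by
  classical
  have h0 : f u 0 = 0 := by
    have h0 := S.add_right u 0 0
    rw [add_zero] at h0
    exact left_eq_add.1 h0
  induction s using Finset.induction_on with
  | empty => simpa using h0
  | insert a s ha ih => rw [Finset.sum_insert ha, Finset.sum_insert ha, S.add_right, ih]

variable {K L : Type*} [Group K] [Group L] {π : L →* K} {ι : L →* Matrix κ κ F} {th : V → K} {O K0 : Subgroup K}
  {Y : V → Matrix κ κ F}

/-- the elements `Y v` are isometries -/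
theorem Y_iso [Nonempty κ] (S : SForm f σ) (H : Lin F π ι) (h : Sit th O K0)
    (hiso : ∀ g u v, f (ι g *ᵥ u) (ι g *ᵥ v) = f u v)
    (hY : ∀ u v, Y (u + v) = Y u * Y v) (hY0 : Y 0 = 1)
    (hYx : ∀ v, ∃ g : L, ∃ c : F, c ≠ 0 ∧ π g = th v ∧ Y v = c • ι g) (w : V) (u v : κ → F) :
    f (Y w *ᵥ u) (Y w *ᵥ v) = f u v := by
  have hYsq : ∀ v, Y v * Y v = 1 := fun v => by rw [← hY, v_add_self, hY0]
  -- the multiplier
  have h1 : ∀ w, ∃ m : F, m ≠ 0 ∧ ∀ u v, f (Y w *ᵥ u) (Y w *ᵥ v) = m * f u v := by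
    intro w
    obtain ⟨g, c, hc0, -, hc⟩ := hYx w
    refine ⟨c * σ c, mul_ne_zero hc0 ?_, fun u v => ?_⟩
    · rw [← S.hom_apply]; exact (map_ne_zero _).2 hc0
    · rw [hc, smul_mulVec, smul_mulVec, S.smul_left, S.smul_right, hiso, mul_assoc]
  choose m hm0 hm using h1
  obtain ⟨u0, v0, h0⟩ := S.ne
  have hadd : ∀ w w', m (w + w') = m w * m w' := by
    intro w w'
    apply mul_right_cancel₀ h0
    rw [← hm, hY, ← mulVec_mulVec, ← mulVec_mulVec, hm, hm, mul_assoc]
  have hconj : ∀ w w', w ≠ 0 → w' ≠ 0 → m w = m w' := by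
    intro w w' hw hw'
    obtain ⟨k, -, hk⟩ := h.exists_conj hw hw'
    obtain ⟨T, rfl⟩ := H.surj k
    obtain ⟨x, c, hc0, hx, hc⟩ := hYx w
    obtain ⟨x', c', hc0', hx', hc'⟩ := hYx w'
    have e1 : π (T * x * T⁻¹) = π x' := by rw [map_mul, map_mul, map_inv, hx, hx', hk]
    obtain ⟨d, -, hd⟩ := H.exists_smul e1
    -- `ι T * Y w * ι T⁻¹ = e • Y w'`
    have e2 : ι T * Y w * ι T⁻¹ = (c * d * c'⁻¹) • Y w' := by
      rw [hc, hc', mul_smul_comm, smul_mul_assoc, ← map_mul, ← map_mul, hd, smul_smul, smul_smul]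
      congr 1
      field_simp
    have hTT : ι T⁻¹ * ι T = 1 := by rw [← map_mul, inv_mul_cancel, map_one]
    have e3 : (c * d * c'⁻¹) * (c * d * c'⁻¹) = 1 := by
      have e4 : (ι T * Y w * ι T⁻¹) * (ι T * Y w * ι T⁻¹) = 1 := by
        calc (ι T * Y w * ι T⁻¹) * (ι T * Y w * ι T⁻¹) = ι T * Y w * (ι T⁻¹ * ι T) * (Y w * ι T⁻¹) := by
              simp only [mul_assoc]
          _ = ι T * (Y w * Y w) * ι T⁻¹ := by rw [hTT]; simp only [mul_assoc, mul_one]
          _ = 1 := by rw [hYsq, mul_one, ← map_mul, mul_inv_cancel, map_one]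
      rw [e2, smul_mul_smul_comm, hYsq] at e4
      obtain ⟨i⟩ := (inferInstance : Nonempty κ)
      have := congrFun (congrFun e4 i) i
      simpa only [_root_.Matrix.smul_apply, _root_.Matrix.one_apply_eq, _root_.smul_eq_mul, _root_.mul_one] using this
    have e5 : σ (c * d * c'⁻¹) * (c * d * c'⁻¹) = 1 := by
      rcases mul_self_eq_one_iff.1 e3 with e6 | e6
      · rw [e6, ← S.hom_apply, map_one, mul_one]
      · rw [e6, ← S.hom_apply, map_neg, map_one]; ring
    apply mul_right_cancel₀ h0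
    have e7 : f ((ι T * Y w * ι T⁻¹) *ᵥ u0) ((ι T * Y w * ι T⁻¹) *ᵥ v0) = m w * f u0 v0 := by
      rw [← mulVec_mulVec, ← mulVec_mulVec, ← mulVec_mulVec, ← mulVec_mulVec, hiso, hm, hiso]
    rw [← e7, e2, smul_mulVec, smul_mulVec, S.smul_left, S.smul_right, hm]
    linear_combination (m w' * f u0 v0) * e5
  have hone : ∀ w, m w = 1 := by
    intro w
    by_cases hw : w = 0
    · apply mul_right_cancel₀ h0
      rw [← hm, hw, hY0, one_mulVec, one_mulVec, one_mul]
    · obtain ⟨c, hc0, hcv, -, -⟩ := exists_third w w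
      have hvc : w + c ≠ 0 := fun hh => hcv ((add_eq_zero_iff _ _).1 hh).symm
      have e1 := hadd w c
      rw [hconj (w + c) w hvc hw, hconj c w hc0 hw] at e1
      exact (mul_right_cancel₀ (hm0 w) (by rw [one_mul]; exact e1)).symm
  rw [hm, hone, one_mul]

/-- the sign elements are isometries -/
theorem Ds_iso [Nonempty κ] (S : SForm f σ) (H : Lin F π ι) (h : Sit th O K0) (h2 : (2 : F) ≠ 0)
    (hiso : ∀ g u v, f (ι g *ᵥ u) (ι g *ᵥ v) = f u v)
    (hY : ∀ u v, Y (u + v) = Y u * Y v) (hY0 : Y 0 = 1)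
    (hYx : ∀ v, ∃ g : L, ∃ c : F, c ≠ 0 ∧ π g = th v ∧ Y v = c • ι g) (e : X F Y → ℤˣ) (u v : κ → F) :
    f (Ds e *ᵥ u) (Ds e *ᵥ v) = f u v := by
  have hYsq : ∀ v, Y v * Y v = 1 := fun v => by rw [← hY, v_add_self, hY0]
  have hYs : ∀ w u v, f (Y w *ᵥ u) v = f u (Y w *ᵥ v) := by
    intro w u v
    have h1 := S.Y_iso H h hiso hY hY0 hYx w u (Y w *ᵥ v)
    rwa [mulVec_mulVec, hYsq, one_mulVec] at h1
  have hσsg : ∀ x : ZMod 2, σ (sg F x) = sg F x := by
    intro x
    rw [← S.hom_apply]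
    unfold sg
    split_ifs
    · exact map_one _
    · rw [map_neg, map_one]
  have hσ16 : σ (16 : F)⁻¹ = (16 : F)⁻¹ := by
    rw [← S.hom_apply, map_inv₀, map_ofNat]
  have hPs : ∀ w u v, f (P F Y w *ᵥ u) v = f u (P F Y w *ᵥ v) := by
    intro w u v
    unfold P
    rw [smul_mulVec, smul_mulVec, S.smul_left, S.smul_right, hσ16, sum_mulVec, sum_mulVec, S.sum_left, S.sum_right]
    congr 1
    refine Finset.sum_congr rfl fun i _ => ?_
    rw [smul_mulVec, smul_mulVec, S.smul_left, S.smul_right, hσsg, hYs]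
  have hσex : ∀ w, σ (ex e w) = ex e w := by
    intro w
    rw [← S.hom_apply]
    rcases ex_cases e w with h1 | h1 <;> rw [h1]
    · exact map_one _
    · rw [map_neg, map_one]
  have hDs : ∀ u v, f (Ds e *ᵥ u) v = f u (Ds e *ᵥ v) := by
    intro u v
    unfold Ds D
    rw [sum_mulVec, sum_mulVec, S.sum_left, S.sum_right]
    refine Finset.sum_congr rfl fun i _ => ?_
    rw [smul_mulVec, smul_mulVec, S.smul_left, S.smul_right, hσex, hPs]
  rw [hDs, mulVec_mulVec, Ds_sq h2 hY hY0, one_mulVec]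

end SForm

/-- the determinant of the sign elements -/
theorem det_range_le {F κ : Type*} [Field F] [Fintype κ] [DecidableEq κ] {Y : V → Matrix κ κ F} (h2 : (2 : F) ≠ 0)
    (hY : ∀ u v, Y (u + v) = Y u * Y v) (hY0 : Y 0 = 1) :
    Nat.card (GeneralLinearGroup.det.comp (dsU h2 hY hY0)).range ≤ 4 := by
  have h1 : (GeneralLinearGroup.det.comp (dsU h2 hY hY0)).range ≤ rootsOfUnity 2 F := by
    rintro _ ⟨e, rfl⟩
    rw [mem_rootsOfUnity, pow_two, ← map_mul]
    have : e * e = 1 := by
      funext u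
      exact Int.units_mul_self _
    rw [this, map_one]
  have h3 := Subgroup.card_dvd_of_le h1
  have h4 : Nat.card (rootsOfUnity 2 F) ≤ 2 := card_rootsOfUnity F 2
  have h5 : 0 < Nat.card (rootsOfUnity 2 F) := Nat.card_pos
  exact (Nat.le_of_dvd h5 h3).trans (h4.trans (by norm_num))

end Cfsg.Agent.H336.LinFour
end

-- part: H336/LinFour/ClassInst
section
/-!
# The classical groups of odd characteristic
-/

set_option autoImplicit false
set_option linter.unusedSectionVars false

namespace Cfsg.Agent.H336.LinFour.ClassInst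

open Subgroup Cfsg Matrix Cfsg.Agent.H336.LinFour Cfsg.Agent.H336.LinFour.Wt
open Cfsg.Agent.H131.ClassTwo

variable {F : Type*} [Field F] [Fintype F]

theorem algebraMap_mat {κ : Type*} [Fintype κ] [DecidableEq κ] (c : F) :
    algebraMap F (Matrix κ κ F) c = c • 1 := Algebra.algebraMap_eq_smul_one c

theorem row_sl (h2 : (2 : F) ≠ 0) {n : ℕ} (hn : 1 ≤ n) {th : V → ProjectiveSpecialLinearGroup (Fin n) F}
    {O K0 : Subgroup (ProjectiveSpecialLinearGroup (Fin n) F)} (h : Sit th O K0) : False := by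
  haveI : Nonempty (Fin n) := ⟨⟨0, hn⟩⟩
  have H : Lin F (QuotientGroup.mk' (center (_root_.Matrix.SpecialLinearGroup (Fin n) F))) (toM n F) :=
    Lin.mk_quot (toM n F) (fun g g' hg => Subtype.ext hg) (fun z hz => by
      obtain ⟨c, -, hc⟩ := sl_center hz
      exact ⟨c, by rw [hc, algebraMap_mat]⟩)
  have : Finite (_root_.Matrix.SpecialLinearGroup (Fin n) F) := inferInstance
  refine H.false_of_idx h h2 fun Y hY hY0 hYx => ?_
  refine index_le_of_hom (GeneralLinearGroup.det.comp (dsU h2 hY hY0)) _ ?_ (det_range_le h2 hY hY0)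
  intro e he
  have hdet : (Ds e : Matrix (Fin n) (Fin n) F).det = 1 := congrArg Units.val (MonoidHom.mem_ker.1 he)
  exact ⟨⟨Ds e, hdet⟩, rfl⟩

theorem row_sp (h2 : (2 : F) ≠ 0) {m : ℕ} (hm : 1 ≤ m) {th : V → PSp m F} {O K0 : Subgroup (PSp m F)}
    (h : Sit th O K0) : False := by
  haveI : Nonempty (Fin m ⊕ Fin m) := ⟨Sum.inl ⟨0, hm⟩⟩
  have H : Lin F (QuotientGroup.mk' (center (symplecticGroup (Fin m) F))) (toS m F) :=
    Lin.mk_quot (toS m F) (fun g g' hg => Subtype.ext hg) (fun z hz => by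
      obtain ⟨c, -, hc⟩ := sp_center hz
      exact ⟨c, by rw [hc, algebraMap_mat]⟩)
  have : Finite (symplecticGroup (Fin m) F) := Subtype.finite
  have hS : SForm (sympForm m F) (fun c : F => c) :=
    { add_left := ClassicalGeometry.SympBasic.sympForm_add_left
      add_right := ClassicalGeometry.SympBasic.sympForm_add_right
      smul_left := ClassicalGeometry.SympBasic.sympForm_smul_left
      smul_right := ClassicalGeometry.SympBasic.sympForm_smul_right
      ne := by
        refine ⟨Pi.single (Sum.inl ⟨0, hm⟩) 1, Pi.single (Sum.inr ⟨0, hm⟩) 1, ?_⟩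
        rw [ClassicalGeometry.SympBasic.sympForm_single_inl_left]
        simp }
  refine H.false_of_idx h h2 fun Y hY hY0 hYx => ?_
  have htop : Hs (F := F) h2 hY hY0 (toS m F) = ⊤ := by
    rw [eq_top_iff]
    intro e _
    have hiso : ∀ (g : symplecticGroup (Fin m) F) u v, sympForm m F (toS m F g *ᵥ u) (toS m F g *ᵥ v) =
        sympForm m F u v := fun g u v => ClassicalGeometry.SympBasic.sympForm_mulVec g.2 u v
    have h3 : (Ds e : Matrix (Fin m ⊕ Fin m) (Fin m ⊕ Fin m) F) ∈ symplecticGroup (Fin m) F :=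
      ClassicalGeometry.SympBasic.mem_symplecticGroup_iff.2 (hS.Ds_iso H h h2 hiso hY hY0 hYx e)
    exact ⟨⟨_, h3⟩, rfl⟩
  rw [htop, index_top]
  norm_num

theorem row_su {q : ℕ} (hF : Fintype.card F = q ^ 2) (h2 : (2 : F) ≠ 0) {n : ℕ} (hn : 3 ≤ n) {th : V → PSU n F q}
    {O K0 : Subgroup (PSU n F q)} (h : Sit th O K0) : False := by
  haveI : Nonempty (Fin n) := ⟨⟨0, by omega⟩⟩
  have H : Lin F (QuotientGroup.mk' (center (SU n F q))) (toU n F q) :=
    Lin.mk_quot (toU n F q) (fun g g' hg => Subtype.ext (Subtype.ext hg)) (fun z hz => by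
      obtain ⟨c, -, hc⟩ := su_center hF hn hz
      exact ⟨c, by rw [hc, algebraMap_mat]⟩)
  have : Finite (SU n F q) := inferInstance
  have hS : SForm (hermForm n F q) (fun c : F => c ^ q) :=
    { add_left := LieClassical.HermBasic.herm_add_left
      add_right := LieClassical.HermBasic.herm_add_right hF
      smul_left := LieClassical.HermBasic.herm_smul_left
      smul_right := LieClassical.HermBasic.herm_smul_right
      ne := by
        refine ⟨Pi.single ⟨0, by omega⟩ 1, Pi.single ⟨0, by omega⟩ 1, ?_⟩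
        have hq : q ≠ 0 := by
          rintro rfl
          have := Fintype.card_pos (α := F)
          rw [hF] at this
          simp at this
        unfold hermForm
        rw [Finset.sum_eq_single (⟨0, by omega⟩ : Fin n)]
        · simp
        · intro j _ hj
          simp [hj]
        · simp }
  refine H.false_of_idx h h2 fun Y hY hY0 hYx => ?_
  refine index_le_of_hom (GeneralLinearGroup.det.comp (dsU h2 hY hY0)) _ ?_ (det_range_le h2 hY hY0)
  intro e he
  have hdet : (Ds e : Matrix (Fin n) (Fin n) F).det = 1 := congrArg Units.val (MonoidHom.mem_ker.1 he)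
  have hiso : ∀ (g : SU n F q) u v, hermForm n F q (toU n F q g *ᵥ u) (toU n F q g *ᵥ v) =
      hermForm n F q u v := fun g u v => g.2 u v
  exact ⟨⟨⟨Ds e, hdet⟩, fun u v => hS.Ds_iso H h h2 hiso hY hY0 hYx e u v⟩, rfl⟩

/-- the matrix of an element of `Ω(Q)` -/
def toO {κ : Type} [Fintype κ] [DecidableEq κ] (Q : (κ → F) → F) : Omega F Q →* Matrix κ κ F where
  toFun g := (((g : isometryGroup F Q) : GeneralLinearGroup κ F) : Matrix κ κ F)
  map_one' := rfl
  map_mul' _ _ := rfl

theorem row_om {κ : Type} [Fintype κ] [DecidableEq κ] (h2 : (2 : F) ≠ 0) (Q : QuadraticForm F (κ → F))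
    (hQ : (QuadraticMap.polarBilin Q).Nondegenerate) (hκ : 3 ≤ Fintype.card κ) (hs : ∃ u : κ → F, u ≠ 0 ∧ Q u = 0)
    {th : V → POmega F (⇑Q)} {O K0 : Subgroup (POmega F (⇑Q))} (h : Sit th O K0) : False := by
  haveI : Nonempty κ := Fintype.card_pos_iff.1 (by omega)
  have H : Lin F (QuotientGroup.mk' (center (Omega F (⇑Q)))) (toO (⇑Q)) :=
    Lin.mk_quot (toO (⇑Q)) (fun g g' hg => Subtype.ext (Subtype.ext (Units.ext hg))) (fun z hz => by
      rcases (LieClassical.OrthCenter.mem_center_omega_iff hQ hκ hs z).1 hz with h1 | h1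
      · exact ⟨1, by rw [map_one]; exact h1⟩
      · exact ⟨-1, by rw [map_neg, map_one]; exact h1⟩)
  have : Finite (Omega F (⇑Q)) := inferInstance
  have hS : SForm (QuadraticMap.polar (⇑Q)) (fun c : F => c) :=
    { add_left := QuadraticMap.polar_add_left Q
      add_right := QuadraticMap.polar_add_right Q
      smul_left := fun c u v => by rw [QuadraticMap.polar_smul_left, smul_eq_mul]
      smul_right := fun c u v => by rw [QuadraticMap.polar_smul_right, smul_eq_mul]
      ne := by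
        by_contra hcon
        push Not at hcon
        have hne : ∃ u : κ → F, u ≠ 0 := exists_ne 0
        obtain ⟨u, hu⟩ := hne
        apply hu
        exact hQ.1 u fun v => hcon u v }
  have hhalf : ∀ v, QuadraticMap.polar (⇑Q) v v = 2 * Q v := by
    intro v
    rw [QuadraticMap.polar, ← two_smul F v, QuadraticMap.map_smul, smul_eq_mul]
    ring
  refine H.false_of_idx h h2 fun Y hY hY0 hYx => ?_
  have hiso : ∀ (g : Omega F (⇑Q)) u v, QuadraticMap.polar (⇑Q) (toO (⇑Q) g *ᵥ u) (toO (⇑Q) g *ᵥ v) =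
      QuadraticMap.polar (⇑Q) u v := by
    intro g u v
    have hg : ∀ w, Q (toO (⇑Q) g *ᵥ w) = Q w := fun w => (g : isometryGroup F (⇑Q)).2 w w
    rw [QuadraticMap.polar, QuadraticMap.polar, ← mulVec_add, hg, hg, hg]
  have hds : ∀ (e : X F Y → ℤˣ) w, Q (Ds e *ᵥ w) = Q w := by
    intro e w
    have h3 := hS.Ds_iso H h h2 hiso hY hY0 hYx e w w
    rw [hhalf, hhalf] at h3
    exact mul_left_cancel₀ h2 h3
  let δ : (X F Y → ℤˣ) →* isometryGroup F (⇑Q) :=
    (dsU h2 hY hY0).codRestrict (isometryGroup F (⇑Q)) (fun e w _ => hds e w)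
  refine index_le_of_hom ((QuotientGroup.mk' (Omega F (⇑Q))).comp δ) _ ?_ ?_
  · intro e he
    have h3 : δ e ∈ Omega F (⇑Q) := by
      rw [MonoidHom.mem_ker, MonoidHom.comp_apply, ← MonoidHom.mem_ker, QuotientGroup.ker_mk'] at he
      exact he
    exact ⟨⟨δ e, h3⟩, rfl⟩
  · have h3 : (Omega F (⇑Q)).index = 4 := ClassicalGeometry.OmegaIndex.index_Omega h2 (by omega) Q hQ
    have hfin : Finite (isometryGroup F (⇑Q)) := inferInstance
    calc Nat.card _ ≤ Nat.card (isometryGroup F (⇑Q) ⧸ Omega F (⇑Q)) :=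
          Nat.card_le_card_of_injective _ (Subgroup.subtype_injective _)
      _ = 4 := h3

/-! ### the rows -/

end Cfsg.Agent.H336.LinFour.ClassInst
end

-- part: H336/LinFour/ClassRow
section
/-!
# The classical groups: only characteristic 2 remains
-/

set_option autoImplicit false

namespace Cfsg.Agent.H336.LinFour.ClassRow

open Subgroup Cfsg Matrix Cfsg.Agent.H336.LinFour Cfsg.Agent.H336.LinFour.ClassInst
open Cfsg.Agent.LieClassical.OmegaReindex

theorem charP_two_or {F : Type*} [Field F] [Finite F] : CharP F 2 ∨ (2 : F) ≠ 0 := by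
  by_cases h : (2 : F) = 0
  · exact Or.inl (CharTwo.of_one_ne_zero_of_two_eq_zero one_ne_zero h)
  · exact Or.inr h

theorem row_om_eq {F : Type} [Field F] [Fintype F] {κ : Type} [Fintype κ] [DecidableEq κ] (h2 : (2 : F) ≠ 0)
    (Q : QuadraticForm F (κ → F)) (Q' : (κ → F) → F) (hQQ : ⇑Q = Q')
    (hQ : (QuadraticMap.polarBilin Q).Nondegenerate) (hκ : 3 ≤ Fintype.card κ) (hs : ∃ u : κ → F, u ≠ 0 ∧ Q' u = 0)
    {th : V → POmega F Q'} {O K0 : Subgroup (POmega F Q')} (h : Sit th O K0) : False := by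
  subst hQQ
  exact row_om h2 Q hQ hκ hs h

theorem charTwo_of_classical {K : Type*} [Group K] [Finite K] {th : V → K} {O K0 : Subgroup K} (h : Sit th O K0)
    (hK : IsPSL K ∨ IsPSp K ∨ IsPSU K ∨ IsPOmegaOdd K ∨ IsPOmegaPlus K ∨ IsPOmegaMinus K) :
    IsLieTypeChar 2 K := by
  rcases hK with hK | hK | hK | hK | hK | hK
  · obtain ⟨F, _, _, n, hn, h4, ⟨e⟩⟩ := hK
    rcases charP_two_or (F := F) with h2 | h2
    · exact Or.inl ⟨F, inferInstance, inferInstance, h2, n, hn, h4, ⟨e⟩⟩
    · exact (row_sl h2 (by omega) (h.equiv e)).elim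
  · obtain ⟨F, _, _, m, hm, h4, ⟨e⟩⟩ := hK
    rcases charP_two_or (F := F) with h2 | h2
    · exact Or.inr (Or.inl ⟨F, inferInstance, inferInstance, h2, m, hm, h4, ⟨e⟩⟩)
    · exact (row_sp h2 (by omega) (h.equiv e)).elim
  · obtain ⟨F, _, _, n, q, hF, hn, h4, ⟨e⟩⟩ := hK
    rcases charP_two_or (F := F) with h2 | h2
    · exact Or.inr (Or.inr (Or.inl ⟨F, inferInstance, inferInstance, h2, n, q, hF, hn, h4, ⟨e⟩⟩))
    · exact (row_su hF h2 hn (h.equiv e)).elim
  · obtain ⟨F, _, _, m, hm, hodd, ⟨e⟩⟩ := hK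
    have h2 : (2 : F) ≠ 0 := Cfsg.Agent.SignalizersComponents.SLQuasisimple.two_ne_zero_of_odd hodd
    refine (row_om_eq h2 (quadOdd m F) _ (coe_quadOdd m F) (quadOdd_nondegenerate h2) ?_ ?_ (h.equiv e)).elim
    · simp only [_root_.Fintype.card_sum, _root_.Fintype.card_unique, _root_.Fintype.card_fin]; omega
    · refine ⟨Pi.single (.inr (.inl ⟨0, by omega⟩)) 1, ?_, ?_⟩
      · intro hh
        have := congrFun hh (.inr (.inl ⟨0, by omega⟩))
        simp at this
      · simp only [quadFormOdd, _root_.ne_eq, _root_.reduceCtorEq, _root_.not_false_eq_true, _root_.Pi.single_eq_of_ne, _root_.OfNat.ofNat_ne_zero, _root_.zero_pow, _root_.Sum.inr.injEq, _root_.MulZeroClass.mul_zero, _root_.Finset.sum_const_zero, _root_.add_zero]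
  · obtain ⟨F, _, _, m, hm, ⟨e⟩⟩ := hK
    rcases charP_two_or (F := F) with h2 | h2
    · exact Or.inr (Or.inr (Or.inr (Or.inr (Or.inl ⟨F, inferInstance, inferInstance, h2, m, hm, ⟨e⟩⟩))))
    · refine (row_om_eq h2 (quadPlus m F) _ (coe_quadPlus m F) quadPlus_nondegenerate ?_ ?_ (h.equiv e)).elim
      · simp only [_root_.Fintype.card_sum, _root_.Fintype.card_fin]; omega
      · refine ⟨Pi.single (.inl ⟨0, by omega⟩) 1, ?_, ?_⟩
        · intro hh
          have := congrFun hh (.inl ⟨0, by omega⟩)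
          simp at this
        · simp only [quadFormPlus, _root_.ne_eq, _root_.reduceCtorEq, _root_.not_false_eq_true, _root_.Pi.single_eq_of_ne, _root_.MulZeroClass.mul_zero, _root_.Finset.sum_const_zero]
  · obtain ⟨F, _, _, m, a, b, hm, hab, ⟨e⟩⟩ := hK
    rcases charP_two_or (F := F) with h2 | h2
    · exact Or.inr (Or.inr (Or.inr (Or.inr (Or.inr (Or.inl ⟨F, inferInstance, inferInstance, h2, m, a, b, hm, hab, ⟨e⟩⟩)))))
    · refine (row_om_eq h2 (quadMinus (m - 1) F a b) _ (coe_quadMinus (m - 1) F a b) (quadMinus_nondegenerate hab) ?_ ?_ (h.equiv e)).elim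
      · simp only [_root_.Fintype.card_sum, _root_.Fintype.card_fin, _root_.Nat.reduceLeDiff]; omega
      · refine ⟨Pi.single (.inl (.inl ⟨0, by omega⟩)) 1, ?_, ?_⟩
        · intro hh
          have := congrFun hh (.inl (.inl ⟨0, by omega⟩))
          simp only [_root_.Pi.single_eq_same, _root_.Pi.zero_apply, _root_.one_ne_zero] at this
        · simp only [quadFormMinus, _root_.ne_eq, _root_.Sum.inl.injEq, _root_.reduceCtorEq, _root_.not_false_eq_true, _root_.Pi.single_eq_of_ne, _root_.MulZeroClass.mul_zero, _root_.Finset.sum_const_zero, _root_.Fin.isValue, _root_.OfNat.ofNat_ne_zero, _root_.zero_pow, _root_.add_zero]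

end Cfsg.Agent.H336.LinFour.ClassRow
end

private theorem dce_c086d054faad : _root_.True := by
  try have : _root_.True := by simp only [_root_.Cfsg.Agent.H336.LinFour.SForm.hom.congr_simp]
  exact _root_.True.intro
end

-- part: H318/Four/SLTwo
section
prune_inst 0x25500c403922020000188092b30000241400019000400000086007420201c3222940a1410e401400801aaa500801000002180110420000000a0004000005002090884204b348a10427009f808080000000000000000000000000000000000004000000000
set_option linter.all false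
open scoped Cfsg.Agent.FastGrp

/-!
# No `Sit` if a 2-central involution is the central involution of a normal `SL₂(q)` of its centraliser (helper318)
-/

set_option autoImplicit false
set_option linter.unusedSectionVars false

namespace Cfsg.Agent.H318.Four.SLTwo

open Subgroup Cfsg.Agent.H336.LinFour
open Cfsg.Agent.Cit.QModSL Cfsg.Agent.Classification.QDW.TypeHom
open Cfsg.Agent.H785.SpSL (sl_center sl_sq ring_unique conj_cases)

local notation "SL2" => Matrix.SpecialLinearGroup (Fin 2)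

variable {F : Type*} [Field F] [Fintype F]

/-- a multiple of a vector -/
def bm (b : Bool) (v : V) : V := if b then v else 0

/-- all inner: a kernel of order greater than 2 -/
theorem exists_ker (hF : Odd (Fintype.card F)) (Φ : V → MulAut (SL2 F)) (hΦ : ∀ u v, Φ (u + v) = Φ u * Φ v)
    (hI : ∀ v, Inn (Φ v)) (a : V) : ∃ c, c ≠ 0 ∧ c ≠ a ∧ Φ c = 1 := by
  classical
  have h0 : Φ 0 = 1 := by
    have := hΦ 0 0
    rw [add_zero] at this
    exact left_eq_mul.mp this
  have hsq : ∀ u, Φ u * Φ u = 1 := fun u => by rw [← hΦ, v_add_self, h0]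
  -- the inner automorphisms
  have hin : ∀ v, ∃ s : SL2 F, (∀ x, Φ v x = s * x * s⁻¹) ∧ (s * s = -1 ∨ s = 1 ∨ s = -1) := by
    intro v
    obtain ⟨s, hs⟩ := hI v
    refine ⟨s, hs, ?_⟩
    have h1 : ∀ x, s * s * x = x * (s * s) := by
      intro x
      have h2 : (Φ v * Φ v) x = x := by rw [hsq]; rfl
      rw [MulAut.mul_apply, hs, hs] at h2
      have h3 : s * (s * x * s⁻¹) * s⁻¹ = s * s * x * (s * s)⁻¹ := by group
      rw [h3] at h2
      exact mul_inv_eq_iff_eq_mul.1 h2
    rcases sl_center hF h1 with h2 | h2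
    · exact Or.inr (sl_sq hF h2)
    · exact Or.inl h2
  have hcs : ∀ v, Φ v ≠ 1 → ∃ s : SL2 F, (∀ x, Φ v x = s * x * s⁻¹) ∧ s * s = -1 := by
    intro v h1
    obtain ⟨s, hs, h2⟩ := hin v
    refine ⟨s, hs, h2.resolve_right ?_⟩
    rintro (rfl | rfl)
    · exact h1 (MulEquiv.ext fun x => by rw [hs]; simp)
    · exact h1 (MulEquiv.ext fun x => by
        rw [hs]
        rw [neg_one_mul, neg_mul]
        show -(x * (-1)⁻¹) = x
        rw [show ((-1 : SL2 F))⁻¹ = -1 by rw [inv_eq_iff_mul_eq_one]; simp]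
        simp)
  obtain ⟨x, y, hxy⟩ : ∃ x y : V, ∀ v, ∃ b c : Bool, Φ (v + bm b x + bm c y) = 1 := by
    by_cases h1 : ∀ v, Φ v = 1
    · exact ⟨0, 0, fun v => ⟨false, false, by simp only [bm, if_neg Bool.false_ne_true, add_zero]; exact h1 v⟩⟩
    push Not at h1
    obtain ⟨x, hx2⟩ := h1
    obtain ⟨s, hs, hs2⟩ := hcs x hx2
    -- the commuting case
    have key : ∀ v, (∃ t : SL2 F, (∀ z, Φ v z = t * z * t⁻¹) ∧ (t * t = -1 ∨ t = 1 ∨ t = -1) ∧ s * t = t * s) →
        ∃ b : Bool, Φ (v + bm b x) = 1 := by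
      rintro v ⟨t, ht1, ht2, ht3⟩
      rcases conj_cases hF hs2 ht2 ht3 with h2 | h2
      · refine ⟨false, ?_⟩
        rw [bm, if_neg (by simp), add_zero]
        exact MulEquiv.ext fun z => by rw [ht1, h2]; rfl
      · refine ⟨true, ?_⟩
        rw [bm, if_pos rfl, hΦ]
        have h3 : Φ v = Φ x := MulEquiv.ext fun z => by rw [ht1, h2, hs]
        rw [h3, hsq]
    by_cases h2 : ∀ v, ∀ t : SL2 F, (∀ z, Φ v z = t * z * t⁻¹) → s * t = t * s
    · refine ⟨x, 0, fun v => ?_⟩
      obtain ⟨t, ht1, ht2⟩ := hin v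
      obtain ⟨b, hb⟩ := key v ⟨t, ht1, ht2, h2 v t ht1⟩
      exact ⟨b, false, by rw [bm, bm, if_neg (by simp : ¬ (false = true)), add_zero]; exact hb⟩
    push Not at h2
    obtain ⟨y, u, hu, hsu⟩ := h2
    -- anticommuting elements
    have hanti : ∀ v (t : SL2 F), (∀ z, Φ v z = t * z * t⁻¹) → s * t = t * s ∨ s * t = -1 * (t * s) := by
      intro v t ht
      have h3 : ∀ z, (t⁻¹ * s⁻¹ * t * s) * z = z * (t⁻¹ * s⁻¹ * t * s) := by
        intro z
        have h4 : (Φ v * Φ x) z = (Φ x * Φ v) z := by rw [← hΦ, ← hΦ, add_comm]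
        rw [MulAut.mul_apply, MulAut.mul_apply, hs, hs, ht, ht] at h4
        have h5 : (t⁻¹ * s⁻¹ * t * s) * z * (t⁻¹ * s⁻¹ * t * s)⁻¹ =
            t⁻¹ * s⁻¹ * (t * (s * z * s⁻¹) * t⁻¹) * s * t := by group
        rw [h4] at h5
        have h6 : t⁻¹ * s⁻¹ * (s * (t * z * t⁻¹) * s⁻¹) * s * t = z := by group
        rw [h6] at h5
        exact mul_inv_eq_iff_eq_mul.1 h5
      have h7 : t * s = s * t * (t⁻¹ * s⁻¹ * t * s) := by group
      rcases sl_center hF h3 with h4 | h4
      · left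
        rw [h4, mul_one] at h7
        exact h7.symm
      · right
        rw [h4] at h7
        rw [h7]; simp
    have hsu' := (hanti y u hu).resolve_left hsu
    refine ⟨x, y, fun v => ?_⟩
    obtain ⟨t, ht1, ht2⟩ := hin v
    rcases hanti v t ht1 with h3 | h3
    · obtain ⟨b, hb⟩ := key v ⟨t, ht1, ht2, h3⟩
      exact ⟨b, false, by rw [bm, bm, if_neg (by simp : ¬ (false = true)), add_zero]; exact hb⟩
    · have h4 : ∀ z, Φ (v + y) z = (t * u) * z * (t * u)⁻¹ := by
        intro z
        rw [hΦ, MulAut.mul_apply, ht1, hu]; group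
      have h6 : s * (t * u) = (t * u) * s := by
        calc s * (t * u) = (s * t) * u := by group
          _ = -1 * (t * s) * u := by rw [h3]
          _ = -1 * t * (s * u) := by group
          _ = -1 * t * (-1 * (u * s)) := by rw [hsu']
          _ = (t * u) * s := by simp [mul_assoc]
      -- `t' = ± t u`
      have h7 : (t * u) * (t * u) = -1 ∨ t * u = 1 ∨ t * u = -1 := by
        have h8 : ∀ z, (t * u) * (t * u) * z = z * ((t * u) * (t * u)) := by
          intro z
          have h9 : (Φ (v + y) * Φ (v + y)) z = z := by rw [hsq]; rfl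
          rw [MulAut.mul_apply, h4, h4] at h9
          have h10 : (t * u) * ((t * u) * z * (t * u)⁻¹) * (t * u)⁻¹ = (t * u) * (t * u) * z * ((t * u) * (t * u))⁻¹ := by
            group
          rw [h10] at h9
          exact mul_inv_eq_iff_eq_mul.1 h9
        rcases sl_center hF h8 with h9 | h9
        · exact Or.inr (sl_sq hF h9)
        · exact Or.inl h9
      obtain ⟨b, hb⟩ := key (v + y) ⟨t * u, h4, h7, h6⟩
      refine ⟨b, true, ?_⟩
      have h8 : v + bm b x + bm true y = v + y + bm b x := by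
        rw [bm, bm, if_pos rfl]; abel
      rw [h8]
      exact hb
  -- the code
  have hcode : ∀ v, ∃ c : Bool × Bool, Φ (v + (bm c.1 x + bm c.2 y)) = 1 := by
    intro v
    obtain ⟨b3, b4, h3⟩ := hxy v
    refine ⟨(b3, b4), ?_⟩
    rw [← h3]
    congr 1
    simp only
    abel
  choose code hc using hcode
  obtain ⟨k, -, hk⟩ := Finset.exists_lt_card_fiber_of_mul_lt_card_of_maps_to (s := (Finset.univ : Finset V))
    (t := (Finset.univ : Finset (Bool × Bool))) (f := code) (n := 3) (fun _ _ => Finset.mem_univ _)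
    (by rw [Finset.card_univ, Finset.card_univ]; simp [V])
  obtain ⟨v0, hv0⟩ : (Finset.univ.filter fun v => code v = k).Nonempty := Finset.card_pos.1 (by omega)
  obtain ⟨v1, hv1, hv1'⟩ := Finset.exists_mem_notMem_of_card_lt_card
    (s := ({v0, v0 + a} : Finset V)) (t := Finset.univ.filter fun v => code v = k)
    (lt_of_le_of_lt (Finset.card_le_two) (by omega))
  rw [Finset.mem_filter] at hv0 hv1
  rw [Finset.mem_insert, Finset.mem_singleton, not_or] at hv1'
  refine ⟨v0 + v1, ?_, ?_, ?_⟩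
  · intro h1
    exact hv1'.1 ((add_eq_zero_iff _ _).1 h1).symm
  · intro h1
    apply hv1'.2
    rw [← h1, self_add_add]
  · have h1 := hc v0
    have h2 := hc v1
    rw [hv0.2] at h1
    rw [hv1.2] at h2
    set L := bm k.1 x + bm k.2 y
    have h3 : v0 + v1 = (v0 + L) + (v1 + L) := by
      have h4 : (v0 + L) + (v1 + L) = v0 + v1 + (L + L) := by abel
      rw [h4, v_add_self, add_zero]
    rw [h3, hΦ, h1, h2, one_mul]

theorem exists_two (a : V) : ∃ u w : V, u ≠ 0 ∧ u ≠ a ∧ w ≠ 0 ∧ w ≠ a ∧ u + w ≠ 0 ∧ u + w ≠ a := by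
  classical
  obtain ⟨u, hu, hu'⟩ := Finset.exists_mem_notMem_of_card_lt_card
    (s := ({0, a} : Finset V)) (t := Finset.univ) (lt_of_le_of_lt (Finset.card_le_two) (by
      rw [Finset.card_univ]; simp [V]))
  obtain ⟨w, hw, hw'⟩ := Finset.exists_mem_notMem_of_card_lt_card
    (s := ({0, a, u, u + a} : Finset V)) (t := Finset.univ) (lt_of_le_of_lt (Finset.card_le_four) (by
      rw [Finset.card_univ]; simp [V]))
  simp only [Finset.mem_insert, Finset.mem_singleton, not_or] at hu' hw'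
  refine ⟨u, w, hu'.1, hu'.2, hw'.1, hw'.2.1, fun h => hw'.2.2.1 ((add_eq_zero_iff _ _).1 h).symm, fun h => hw'.2.2.2 ?_⟩
  rw [← h, self_add_add]

/-- an invariant subgroup of index at most two -/
theorem all_of_two {a : V} (ha : a ≠ 0) (W : AddSubgroup V)
    (hW : ∀ c b, dt c a = 0 → dt c b = 0 → ∀ w ∈ W, w + dt c w • b ∈ W)
    (h2 : ∀ u w, u ∉ W → w ∉ W → u + w ∈ W) (v : V) : v ∈ W := by
  obtain ⟨u, w, hu, hua, hw, hwa, huw, huwa⟩ := exists_two a
  rcases inv_cases ha W hW with h | h | h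
  · exfalso
    have h1 : ∀ x, x ∈ W ↔ x = 0 := fun x => by rw [h]; exact AddSubgroup.mem_bot
    have := h2 u w (fun hh => hu ((h1 _).1 hh)) (fun hh => hw ((h1 _).1 hh))
    exact huw ((h1 _).1 this)
  · exfalso
    have := h2 u w (fun hh => ((h _).1 hh).elim hu hua) (fun hh => ((h _).1 hh).elim hw hwa)
    exact ((h _).1 this).elim huw huwa
  · rw [h]; exact AddSubgroup.mem_top v

/-- the matrix of order four -/
theorem exists_sq : ∃ s : SL2 F, s * s = -1 := by
  refine ⟨⟨!![0, 1; -1, 0], by simp [Matrix.det_fin_two_of]⟩, ?_⟩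
  apply Subtype.ext
  change (!![0, 1; -1, 0] * !![0, 1; -1, 0] : Matrix (Fin 2) (Fin 2) F) = -1
  ext i j
  fin_cases i <;> fin_cases j <;> simp [Matrix.mul_apply, Fin.sum_univ_two]

theorem two_ne_of_odd (h : Odd (Fintype.card F)) : (2 : F) ≠ 0 := by
  intro h2
  have h1 : ((Fintype.card F : ℕ) : F) = 0 := Nat.cast_card_eq_zero F
  obtain ⟨k, hk⟩ := h
  rw [hk, Nat.cast_add, Nat.cast_mul, Nat.cast_two, h2, zero_mul, zero_add, Nat.cast_one] at h1
  exact one_ne_zero h1

/-- **No `Sit` with `φ(-1) ∈ A`, `φ(SL₂(q))` normal in `C(φ(-1))`.** -/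
theorem false_of_mem {K : Type*} [Group K] {th : V → K} {O K0 : Subgroup K} (h : Sit th O K0)
    (hF : Odd (Fintype.card F)) (φ : SL2 F →* K) (hi : Function.Injective φ)
    (hn : ∀ g : K, g * φ (-1) = φ (-1) * g → ∀ x ∈ φ.range, g * x * g⁻¹ ∈ φ.range) {a : V} (ha : a ≠ 0)
    (hφ : φ (-1) = th a) : False := by
  classical
  have h2 : (2 : F) ≠ 0 := two_ne_of_odd hF
  -- the automorphisms
  have hA : ∀ k : K, k * th a = th a * k → ∃ κ : MulAut (SL2 F), ∀ s, φ (κ s) = k * φ s * k⁻¹ := by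
    intro k hk
    have h1 : ∀ s, ∃ t, φ t = k * φ s * k⁻¹ := fun s => hn k (by rw [hφ, hk]) _ ⟨s, rfl⟩
    have h3 : ∀ s, ∃ t, φ t = k⁻¹ * φ s * k := fun s => by
      have := hn k⁻¹ (by rw [hφ, inv_mul_eq_iff_eq_mul, ← mul_assoc, hk, mul_inv_cancel_right]) _ ⟨s, rfl⟩
      rwa [inv_inv] at this
    choose f hf using h1
    choose g hg using h3
    refine ⟨{ toFun := f, invFun := g, left_inv := fun s => hi ?_, right_inv := fun s => hi ?_,
              map_mul' := fun s t => hi ?_ }, hf⟩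
    · rw [hg, hf]; group
    · rw [hf, hg]; group
    · rw [hf, map_mul, map_mul, hf, hf]; group
  have hcomm : ∀ v, th v * th a = th a * th v := fun v => h.comm v a
  choose Φ hΦ using fun v => hA (th v) (hcomm v)
  have hΦadd : ∀ u v, Φ (u + v) = Φ u * Φ v := fun u v => MulEquiv.ext fun s => hi (by
    rw [hΦ, MulAut.mul_apply, hΦ, hΦ, h.add]; group)
  have h0 : Φ 0 = 1 := by
    have := hΦadd 0 0
    rw [add_zero] at this
    exact left_eq_mul.mp this
  have hsq : ∀ u, Φ u * Φ u = 1 := fun u => by rw [← hΦadd, v_add_self, h0]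
  have hneg : ∀ u, Φ (-u) = Φ u := fun u => by rw [v_neg]
  -- conjugation
  have hconj : ∀ c b, dt c a = 0 → dt c b = 0 → ∃ κ : MulAut (SL2 F), ∀ w, Φ (w + dt c w • b) = κ * Φ w * κ⁻¹ := by
    intro c b hc hb
    obtain ⟨k, -, hk⟩ := h.exists_tv c b hb
    have hka : k * th a = th a * k := by
      have := hk a
      rw [hc, zero_smul, add_zero, mul_inv_eq_iff_eq_mul] at this
      exact this
    obtain ⟨κ, hκ⟩ := hA k hka
    refine ⟨κ, fun w => ?_⟩
    rw [eq_mul_inv_iff_mul_eq]
    refine MulEquiv.ext fun s => hi ?_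
    rw [MulAut.mul_apply, MulAut.mul_apply, hΦ, hκ, hκ, hΦ, ← hk w]; group
  -- the type
  let W1 : AddSubgroup V :=
    { carrier := {v | typ (Φ v) = 1}
      zero_mem' := by change typ (Φ 0) = 1; rw [h0, map_one]
      add_mem' := fun {u v} (hu : typ (Φ u) = 1) (hv : typ (Φ v) = 1) => by
        change typ (Φ (u + v)) = 1; rw [hΦadd, map_mul, hu, hv, one_mul]
      neg_mem' := fun {u} hu => by change typ (Φ (-u)) = 1; rw [hneg]; exact hu }
  have hs : ∀ u, typ (Φ u) * typ (Φ u) = 1 := fun u => by rw [← map_mul, hsq, map_one]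
  have hW1 : ∀ v, typ (Φ v) = 1 := all_of_two ha W1 (by
    intro c b hc hb w hw
    obtain ⟨κ, hκ⟩ := hconj c b hc hb
    change typ (Φ (w + dt c w • b)) = 1
    replace hw : typ (Φ w) = 1 := hw
    rw [hκ, map_mul, map_mul, hw, mul_one, ← map_mul, mul_inv_cancel, map_one]) (by
    intro u w hu hw
    change typ (Φ (u + w)) = 1
    rw [hΦadd, map_mul, ring_unique (hs u) (hs w) hu hw, hs])
  have hInn1 : Inn (1 : MulAut (SL2 F)) := ⟨1, fun x => by simp⟩
  have hInnm : ∀ {α β : MulAut (SL2 F)}, Inn α → Inn β → Inn (α * β) := by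
    rintro α β ⟨s, hs⟩ ⟨t, ht⟩
    exact ⟨s * t, fun x => by rw [MulAut.mul_apply, ht, hs]; group⟩
  let W2 : AddSubgroup V :=
    { carrier := {v | Inn (Φ v)}
      zero_mem' := by change Inn (Φ 0); rw [h0]; exact hInn1
      add_mem' := fun {u v} (hu : Inn (Φ u)) (hv : Inn (Φ v)) => by
        change Inn (Φ (u + v)); rw [hΦadd]; exact hInnm hu hv
      neg_mem' := fun {u} hu => by change Inn (Φ (-u)); rw [hneg]; exact hu }
  have hW2 : ∀ v, Inn (Φ v) := all_of_two ha W2 (by
    intro c b hc hb w hw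
    obtain ⟨κ, hκ⟩ := hconj c b hc hb
    change Inn (Φ (w + dt c w • b))
    obtain ⟨s, hs⟩ : Inn (Φ w) := hw
    rw [hκ]
    refine ⟨κ s, fun x => ?_⟩
    have e : κ (κ⁻¹ x) = x := MulAut.apply_inv_self _ _ _
    rw [MulAut.mul_apply, MulAut.mul_apply, hs, map_mul, map_mul, e, map_inv]) (by
    intro u w hu hw
    change Inn (Φ (u + w))
    rw [hΦadd]
    exact inner_mul hF (hW1 u) (hW1 w) hu hw)
  obtain ⟨c, hc0, hca, hc⟩ := exists_ker hF Φ hΦadd hW2 a
  let W3 : AddSubgroup V :=
    { carrier := {v | Φ v = 1}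
      zero_mem' := h0
      add_mem' := fun {u v} (hu : Φ u = 1) (hv : Φ v = 1) => by
        change Φ (u + v) = 1; rw [hΦadd, hu, hv, one_mul]
      neg_mem' := fun {u} hu => by change Φ (-u) = 1; rw [hneg]; exact hu }
  have hW3 : ∀ v, Φ v = 1 := by
    intro v
    have h3 := inv_cases ha W3 (by
      intro c b hc hb w hw
      obtain ⟨κ, hκ⟩ := hconj c b hc hb
      change Φ (w + dt c w • b) = 1
      replace hw : Φ w = 1 := hw
      rw [hκ, hw, mul_one, mul_inv_cancel])
    rcases h3 with h3 | h3 | h3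
    · exfalso
      have h4 : c ∈ W3 := hc
      rw [h3, AddSubgroup.mem_bot] at h4
      exact hc0 h4
    · exfalso
      exact ((h3 c).1 hc).elim hc0 hca
    · have h4 : v ∈ W3 := by rw [h3]; exact AddSubgroup.mem_top v
      exact h4
  obtain ⟨s, hs4⟩ := exists_sq (F := F)
  have hcs : ∀ v, φ s * th v = th v * φ s := by
    intro v
    have h3 := hΦ v s
    rw [hW3 v] at h3
    change φ s = _ at h3
    exact (eq_mul_inv_iff_mul_eq.1 h3)
  have h3 : φ s * φ s = th a := by rw [← map_mul, hs4, hφ]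
  obtain ⟨u, hu⟩ := h.mem_of_sq (x := φ s) hcs (n := 2) (by
    change φ s ^ 4 = 1
    rw [show (4 : ℕ) = 2 * 2 from rfl, pow_mul, pow_two (φ s), h3, pow_two, h.sq])
  rw [← hu, h.sq] at h3
  exact ha ((h.eq_one_iff a).1 h3.symm)

/-- **No `Sit` if `φ(-1)` is 2-central and `φ(SL₂(q))` is normal in `C(φ(-1))`.** -/
theorem false_of_phi {K : Type*} [Group K] [Finite K] {th : V → K} {O K0 : Subgroup K} (h : Sit th O K0)
    (hF : Odd (Fintype.card F)) (φ : SL2 F →* K) (hi : Function.Injective φ)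
    (hn : ∀ g : K, g * φ (-1) = φ (-1) * g → ∀ x ∈ φ.range, g * x * g⁻¹ ∈ φ.range)
    (hodd : ¬ 2 ∣ (centralizer ({φ (-1)} : Set K)).index) : False := by
  have h2 : (2 : F) ≠ 0 := two_ne_of_odd hF
  have hne : (-1 : SL2 F) ≠ 1 := by
    intro h
    have h1 := congrArg (fun s : SL2 F => s.1 0 0) h
    have h3 : (-1 : F) = 1 := by simpa using h1
    apply h2
    linear_combination -h3
  have h1 : φ (-1) ≠ 1 := fun hh => hne (hi (by rw [hh, map_one]))
  have h3 : φ (-1) ^ 2 ^ 1 = 1 := by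
    rw [pow_one, pow_two, ← map_mul]
    have : (-1 : SL2 F) * -1 = 1 := by simp
    rw [this, map_one]
  obtain ⟨a, ha⟩ : ∃ a : V, a ≠ 0 := ⟨Pi.single 0 1, fun h => by
    have := congrFun h 0
    simp at this⟩
  obtain ⟨g, hg⟩ := h.exists_conj_of_odd_index h1 h3 hodd ha
  refine false_of_mem h hF ((MulAut.conj g).toMonoidHom.comp φ) ((MulAut.conj g).injective.comp hi) ?_ ha hg
  rintro k hk _ ⟨s, rfl⟩
  have e1 : ∀ x, ((MulAut.conj g).toMonoidHom.comp φ) x = g * φ x * g⁻¹ := fun x => rfl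
  rw [e1] at hk
  rw [e1]
  have h4 := hn (g⁻¹ * k * g) (by
    calc g⁻¹ * k * g * φ (-1) = g⁻¹ * (k * (g * φ (-1) * g⁻¹)) * g := by group
      _ = g⁻¹ * (g * φ (-1) * g⁻¹ * k) * g := by rw [hk]
      _ = _ := by group) (φ s) ⟨s, rfl⟩
  obtain ⟨t, ht⟩ := h4
  refine ⟨t, ?_⟩
  rw [e1, ht]; group

end Cfsg.Agent.H318.Four.SLTwo

private theorem dce_f1660332c420 : _root_.True := by
  try have : _root_.True := by simp only [_root_.Cfsg.Agent.H318.Four.SLTwo.bm.eq_1]
  exact _root_.True.intro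
end

-- part: H318/Four/RowE7
section
set_option linter.all false

/-!
# No `Sit` in `E₇(q)`, `q` odd (helper318)
-/

set_option autoImplicit false
set_option linter.unusedSectionVars false

namespace Cfsg.Agent.H318.Four.RowE7

open Cfsg Cfsg.Lie Subgroup Cfsg.Agent.H336.LinFour
open Cfsg.Agent.OddHalf.LongSL Cfsg.Agent.OddHalf.LongSL.Chev
open Cfsg.Agent.H785.SpE7

/-- **row `E7`** -/
theorem row_E7 {K : Type*} [Group K] [Finite K] {F : Type} [Field F] [Fintype F] (h2 : (2 : F) ≠ 0)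
    (e : K ≃* ↥(Lie.chevE7.group F)) {th : V → K} {O K0 : Subgroup K} (h : Sit th O K0) : False := by
  have hF := odd_of_two_ne h2
  have : Finite ↥(Lie.chevE7.group F) := Finite.of_equiv _ e.toEquiv
  exact SLTwo.false_of_phi (h.equiv e) hF (phi typeE7 F 0) (phi_injective typeE7 F 0 (two_ne_of_odd hF) chkOddE7)
    (nrm typeE7 F 0 hF chkE7 chkIsoE7) (indexE7 hF)

end Cfsg.Agent.H318.Four.RowE7
end

-- part: H336/LinFour/Frame
section
prune_inst 0x42008004800020000188002800000040c0000900023000149200240020a51232904a74044001a0000020a4000090000000000100000000020000c0040010020908250063300a10426009f804806000000000000000000000000000000041000000000000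
set_option linter.all false
open scoped Cfsg.Agent.FastGrp

-- part: H336/LinFour/Reduce
section
/-!
# Reduction to a simple normal subgroup with trivial centraliser
-/

set_option autoImplicit false

namespace Cfsg.Agent.H336.LinFour

open Subgroup Pointwise Cfsg
open Cfsg.Agent.SignalizersComponents.Components Cfsg.Agent.H369.Socle

/-- a 2-subgroup in which `A` is self-normalising -/
theorem eq_of_inf_normalizer_le {G : Type*} [Group G] [Finite G] {P A : Subgroup G} (hP : IsPGroup 2 P) (hA : A ≤ P)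
    (h : P ⊓ normalizer (A : Set G) ≤ A) : P = A := by
  have : Fact (Nat.Prime 2) := ⟨Nat.prime_two⟩
  by_contra hne
  have hnil : Group.IsNilpotent P := hP.isNilpotent
  have hlt : A.subgroupOf P < ⊤ := by
    rw [lt_top_iff_ne_top, Ne, subgroupOf_eq_top]
    exact fun h1 => hne (le_antisymm h1 hA)
  obtain ⟨h1, h2⟩ := SetLike.lt_iff_le_and_exists.1 (Group.normalizerCondition_of_isNilpotent _ hlt)
  obtain ⟨⟨x, hxP⟩, hx, hxA⟩ := h2
  apply hxA
  rw [mem_subgroupOf]
  refine h ⟨hxP, ?_⟩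
  change x ∈ normalizer (A : Set G)
  rw [mem_normalizer_iff] at hx ⊢
  intro a
  constructor
  · intro ha
    have := (hx ⟨a, hA ha⟩).1 (mem_subgroupOf.2 ha)
    exact mem_subgroupOf.1 this
  · intro ha
    have haP : a ∈ P := by
      have h3 := P.mul_mem (P.mul_mem (P.inv_mem hxP) (hA ha)) hxP
      have h4 : x⁻¹ * (x * a * x⁻¹) * x = a := by group
      rwa [h4] at h3
    have := (hx ⟨a, haP⟩).2 (mem_subgroupOf.2 ha)
    exact mem_subgroupOf.1 this

namespace Sit

variable {G : Type*} [Group G] {th : V → G} {O K0 : Subgroup G}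

theorem inv_all (h : Sit th O K0) (M : Subgroup G) (hM : ∀ k ∈ K0, ∀ x ∈ M, k * x * k⁻¹ ∈ M) {v : V}
    (hv : v ≠ 0) (hvM : th v ∈ M) (u : V) : th u ∈ M := by
  by_cases hu : u = 0
  · rw [hu, h.zero]; exact M.one_mem
  · obtain ⟨k, hk, hk'⟩ := h.exists_conj hv hu
    rw [← hk']
    exact hM k hk _ hvM

/-- a normal 2-subgroup of `N` lies in `A` -/
theorem le_of_pgroup_normal [Finite G] (h : Sit th O K0) (R : Subgroup G) (hR : IsPGroup 2 R)
    (hn : (R.subgroupOf (normalizer (h.A : Set G))).Normal) : R ⊓ normalizer (h.A : Set G) ≤ h.A := by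
  rcases h.normal_cases (R.subgroupOf (normalizer (h.A : Set G))) with h2 | h2
  · rintro x ⟨hx, hxN⟩
    have h3 : (⟨x, hxN⟩ : normalizer (h.A : Set G)) ∈ h.rep.ker := h2 (mem_subgroupOf.2 hx)
    rw [MonoidHom.mem_ker, h.rep_eq_one] at h3
    exact h.mem_of_pgroup hR hx h3
  · exfalso
    have h3 : IsPGroup 2 (R.subgroupOf (normalizer (h.A : Set G))) := hR.comap_of_injective _ (subtype_injective _)
    have h4 : IsPGroup 2 (⊤ : Subgroup S) := by
      rw [← h2]
      exact h3.map _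
    have : Fact (Nat.Prime 2) := ⟨Nat.prime_two⟩
    rw [IsPGroup.iff_card, card_top, card_S] at h4
    obtain ⟨n, hn⟩ := h4
    have h5 : 3 ∣ 2 ^ n := by rw [← hn]; decide
    exact absurd (Nat.Prime.dvd_of_dvd_pow Nat.prime_three h5) (by decide)

/-- a normal 2-subgroup -/
theorem pgroup_normal [Finite G] (h : Sit th O K0) (R : Subgroup G) [hRn : R.Normal] (hR : IsPGroup 2 R) :
    R = ⊥ ∨ R = h.A := by
  have h1 := h.le_of_pgroup_normal R hR inferInstance
  by_cases h2 : ∃ v, v ≠ 0 ∧ th v ∈ R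
  · right
    obtain ⟨v, hv, hvR⟩ := h2
    have hA : h.A ≤ R := by
      rintro _ ⟨u, rfl⟩
      exact h.inv_all R (fun k _ x hx => hRn.conj_mem x hx k) hv hvR u
    exact eq_of_inf_normalizer_le hR hA h1
  · left
    push Not at h2
    have h3 : IsPGroup 2 (R ⊔ h.A : Subgroup G) := hR.to_sup_of_normal_left h.isPGroup_A
    have h4 : R ⊔ h.A = h.A := by
      refine eq_of_inf_normalizer_le h3 le_sup_right ?_
      rintro x ⟨hx, hxN⟩
      obtain ⟨r, hr, a, ha, rfl⟩ := mem_sup_of_normal_left.1 hx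
      have hrN : r ∈ normalizer (h.A : Set G) := by
        have := (normalizer (h.A : Set G)).mul_mem hxN ((normalizer (h.A : Set G)).inv_mem (le_normalizer ha))
        rwa [mul_inv_cancel_right] at this
      exact mul_mem (h1 ⟨hr, hrN⟩) ha
    rw [eq_bot_iff]
    intro r hr
    have h5 : r ∈ h.A := by rw [← h4]; exact mem_sup_left hr
    obtain ⟨v, rfl⟩ := h5
    by_cases hv : v = 0
    · rw [hv, h.zero]; exact one_mem _
    · exact absurd hr (h2 v hv)

/-- a normal subgroup of even order contains `A` -/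
theorem A_le_of_even [Finite G] (h : Sit th O K0) (M : Subgroup G) [hM : M.Normal] (h2 : 2 ∣ Nat.card M) : h.A ≤ M := by
  have : Fact (Nat.Prime 2) := ⟨Nat.prime_two⟩
  obtain ⟨P, hP⟩ := h.isPGroup_A.exists_le_sylow
  -- `P ∩ M` is a nontrivial normal subgroup of `P`
  have hne : M.subgroupOf (P : Subgroup G) ≠ ⊥ := by
    obtain ⟨x, hx⟩ := exists_prime_orderOf_dvd_card' 2 h2
    have hxo : orderOf (x : G) = 2 := by rw [orderOf_coe]; exact hx
    have hxp : IsPGroup 2 (zpowers (x : G)) := by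
      rw [IsPGroup.iff_card]; exact ⟨1, by rw [Nat.card_zpowers, hxo, pow_one]⟩
    obtain ⟨Q, hQ⟩ := hxp.exists_le_sylow
    obtain ⟨g, hg⟩ := MulAction.exists_smul_eq G Q P
    have h3 : g * x * g⁻¹ ∈ P := by
      rw [← hg]
      change g * x * g⁻¹ ∈ (MulAut.conj g) • (Q : Subgroup G)
      rw [Subgroup.mem_pointwise_smul_iff_inv_smul_mem]
      have h5 : (MulAut.conj g)⁻¹ • (g * (x : G) * g⁻¹) = x := by
        rw [← map_inv, MulAut.smul_def, MulAut.conj_apply]; group
      rw [h5]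
      exact hQ (mem_zpowers _)
    have h4 : g * x * g⁻¹ ∈ M := hM.conj_mem _ x.2 g
    intro hb
    have h5 : (⟨_, h3⟩ : P) ∈ M.subgroupOf (P : Subgroup G) := mem_subgroupOf.2 h4
    rw [hb, mem_bot] at h5
    have h6 : g * (x : G) * g⁻¹ = 1 := congrArg Subtype.val h5
    rw [mul_inv_eq_one, mul_eq_left] at h6
    rw [h6, orderOf_one] at hxo
    exact absurd hxo (by decide)
  obtain ⟨z, hzM, hz1, hzc⟩ : ∃ z : P, z ∈ M.subgroupOf (P : Subgroup G) ∧ z ≠ 1 ∧ z ∈ center P := by
    have hnil : Group.IsNilpotent (P : Subgroup G) := P.2.isNilpotent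
    have h3 := Cfsg.Agent.Lib.NormalAbelian.normal_inf_center_ne_bot (M.subgroupOf (P : Subgroup G)) hne
    obtain ⟨z, hz1⟩ := Subgroup.ne_bot_iff_exists_ne_one.1 h3
    exact ⟨z, z.2.1, fun hh => hz1 (Subtype.ext hh), z.2.2⟩
  have hzA : (z : G) ∈ h.A := h.mem_of_pgroup P.2 z.2 fun v =>
    (congrArg Subtype.val (mem_center_iff.1 hzc ⟨_, hP (h.th_mem v)⟩)).symm
  obtain ⟨v, hv⟩ := hzA
  have hv0 : v ≠ 0 := by
    rintro rfl
    rw [h.zero] at hv
    exact hz1 (Subtype.ext hv.symm)
  rintro _ ⟨u, rfl⟩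
  refine h.inv_all M (fun k _ x hx => hM.conj_mem x hx k) hv0 ?_ u
  rw [hv]
  exact mem_subgroupOf.1 hzM

/-- the simple normal subgroup -/
theorem exists_simple [Finite G] (h : Sit th O K0) (hO : oddCore G = ⊥) (hN : ¬ h.A.Normal) :
    ∃ K : Subgroup G, K.Normal ∧ IsSimpleGroup K ∧ ¬ IsMulCommutative K ∧ centralizer (K : Set G) = ⊥ ∧
      ∀ v, th v ∈ K := by
  have : Fact (Nat.Prime 2) := ⟨Nat.prime_two⟩
  have h2core : pCore 2 G = ⊥ := by
    rcases h.pgroup_normal (pCore 2 G) (Cfsg.Agent.Lib.Cores.pCore_isPGroup 2) with h1 | h1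
    · exact h1
    · exact absurd (h1 ▸ (inferInstance : (pCore 2 G).Normal)) hN
  have hR : NoSol G := by
    apply Cfsg.Agent.H446.TopBound.noSol_of_fitting
    rw [Cfsg.Agent.SignalizersComponents.PConstrained.fittingSubgroup_eq_pCore_of_pPrimeCore_eq_bot 2 hO, h2core]
  obtain ⟨v0, hv0⟩ : ∃ v : V, v ≠ 0 := exists_ne 0
  have hth0 : th v0 ≠ 1 := fun hh => hv0 ((h.eq_one_iff _).1 hh)
  have heven : ∀ C : Subgroup G, IsComponent C → 2 ∣ Nat.card C := by
    intro C hC
    by_contra hodd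
    have h1 := Cfsg.Agent.S0205.result (G := C) (by rwa [← Nat.not_even_iff_odd, even_iff_two_dvd])
    exact quasisimple_not_isSolvable hC.2 h1
  -- a component not centralised by `A`
  obtain ⟨K, hK, x0, hx0, v1, hv1⟩ : ∃ C : Subgroup G, IsComponent C ∧ ∃ x ∈ C, ∃ v, th v * x * (th v)⁻¹ ≠ x := by
    by_contra hc
    push Not at hc
    exact hth0 (eq_one_of_centralizes hR fun C hC x hx => hc C hC x hx v0)
  have hKs : IsSimpleGroup K := isSimple hR hK
  have hKc : ∀ x ∈ K, (∀ y ∈ K, x * y = y * x) → x = 1 := by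
    intro x hx hc
    have h1 : (⟨x, hx⟩ : K) ∈ center K := mem_center_iff.2 fun y => Subtype.ext (hc y y.2).symm
    rw [center_eq_bot hR hK, mem_bot] at h1
    exact congrArg Subtype.val h1
  have hAE : h.A ≤ layer G := by
    have hn : (layer G).Normal := layer_normal G
    exact h.A_le_of_even (layer G) ((heven K hK).trans (card_dvd_of_le (component_le_layer hK)))
  -- the product decomposition
  let T : Subgroup G :=
    { carrier := {x | ∃ k ∈ K, ∃ c, (∀ y ∈ K, c * y = y * c) ∧ x = k * c}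
      one_mem' := ⟨1, K.one_mem, 1, fun y _ => by rw [one_mul, mul_one], (mul_one 1).symm⟩
      mul_mem' := by
        rintro _ _ ⟨k, hk, c, hc, rfl⟩ ⟨k', hk', c', hc', rfl⟩
        refine ⟨k * k', K.mul_mem hk hk', c * c', fun y hy => ?_, ?_⟩
        · rw [mul_assoc, hc' y hy, ← mul_assoc, hc y hy, mul_assoc]
        · rw [mul_assoc, ← mul_assoc c, hc k' hk', mul_assoc, mul_assoc]
      inv_mem' := by
        rintro _ ⟨k, hk, c, hc, rfl⟩
        refine ⟨k⁻¹, K.inv_mem hk, c⁻¹, fun y hy => ?_, ?_⟩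
        · rw [inv_mul_eq_iff_eq_mul, ← mul_assoc, hc y hy, mul_inv_cancel_right]
        · rw [mul_inv_rev, inv_mul_eq_iff_eq_mul, ← mul_assoc, hc _ (K.inv_mem hk), mul_inv_cancel_right] }
  have hT : layer G ≤ T := by
    rw [layer_le_iff]
    intro D hD x hx
    by_cases hDK : D = K
    · subst hDK
      exact ⟨x, hx, 1, fun y _ => by rw [one_mul, mul_one], (mul_one _).symm⟩
    · exact ⟨1, K.one_mem, x, fun y hy => comm_of_ne hD hK hDK hx hy, (one_mul _).symm⟩
  have hdec : ∀ v, ∃ k ∈ K, ∃ c, (∀ y ∈ K, c * y = y * c) ∧ th v = k * c := fun v => hT (hAE (h.th_mem v))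
  -- the components lie in `A`
  have hkA : ∀ v k c, k ∈ K → (∀ y ∈ K, c * y = y * c) → th v = k * c → k ∈ h.A := by
    intro v k c hk hc hv
    refine h.mem_of_mul_self (fun u => ?_) ?_
    · obtain ⟨k', hk', c', hc', hu⟩ := hdec u
      have h1 := h.comm v u
      rw [hv, hu] at h1
      have h2 : (k' * k)⁻¹ * (k * k') = 1 := by
        have h3 : (k' * k)⁻¹ * (k * k') = (c' * c) * (c * c')⁻¹ := by
          rw [inv_mul_eq_iff_eq_mul, ← mul_assoc, eq_mul_inv_iff_mul_eq]
          calc k * k' * (c * c') = k * (c * k') * c' := by rw [hc k' hk']; group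
            _ = k * c * (k' * c') := by group
            _ = k' * c' * (k * c) := h1
            _ = k' * (c' * k) * c := by group
            _ = k' * (k * c') * c := by rw [hc' k hk]
            _ = _ := by group
        refine hKc _ (K.mul_mem (K.inv_mem (K.mul_mem hk' hk)) (K.mul_mem hk hk')) fun y hy => ?_
        rw [h3]
        have hcc : ∀ y ∈ K, (c' * c) * y = y * (c' * c) := fun y hy => by
          rw [mul_assoc, hc y hy, ← mul_assoc, hc' y hy, mul_assoc]
        have hcc' : ∀ y ∈ K, (c * c')⁻¹ * y = y * (c * c')⁻¹ := fun y hy => by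
          rw [inv_mul_eq_iff_eq_mul, ← mul_assoc]
          have : c * c' * y = y * (c * c') := by rw [mul_assoc, hc' y hy, ← mul_assoc, hc y hy, mul_assoc]
          rw [this, mul_inv_cancel_right]
        rw [mul_assoc, hcc' y hy, ← mul_assoc, hcc y hy, mul_assoc]
      rw [inv_mul_eq_one] at h2
      rw [hu, ← mul_assoc, ← h2, mul_assoc, mul_assoc, hc' k hk]
    · have h1 := h.sq v
      rw [hv] at h1
      refine hKc _ (K.mul_mem hk hk) fun y hy => ?_
      have h2 : k * k = (c * c)⁻¹ := by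
        rw [eq_inv_iff_mul_eq_one, ← h1]
        calc k * k * (c * c) = k * (k * c) * c := by group
          _ = k * (c * k) * c := by rw [hc k hk]
          _ = _ := by group
      rw [h2, inv_mul_eq_iff_eq_mul, ← mul_assoc]
      have : c * c * y = y * (c * c) := by rw [mul_assoc, hc y hy, ← mul_assoc, hc y hy, mul_assoc]
      rw [this, mul_inv_cancel_right]
  -- a nonzero element of `A ∩ K`
  obtain ⟨v, hv, hvK⟩ : ∃ v, v ≠ 0 ∧ th v ∈ K := by
    obtain ⟨k, hk, c, hc, h1⟩ := hdec v1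
    obtain ⟨w, hw⟩ := hkA v1 k c hk hc h1
    refine ⟨w, ?_, by rw [hw]; exact hk⟩
    rintro rfl
    rw [h.zero] at hw
    rw [← hw, one_mul] at h1
    rw [h1] at hv1
    exact hv1 (by rw [hc x0 hx0, mul_inv_cancel_right])
  have hAK : ∀ u, th u ∈ K := by
    intro u
    obtain ⟨k, hk, c, hc, h1⟩ := hdec u
    obtain ⟨w, hw⟩ := hkA u k c hk hc h1
    have hcA : c = th (w + u) := by
      rw [h.add, hw, h1, ← mul_assoc]
      have := h.sq w
      rw [hw] at this
      rw [this, one_mul]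
    by_cases hwu : w + u = 0
    · rw [hwu, h.zero] at hcA
      rw [h1, hcA, mul_one]
      exact hk
    · exfalso
      have hne : v + (w + u) ≠ 0 := by
        intro hh
        have h2 : v = w + u := (add_eq_zero_iff _ _).1 hh
        apply hth0
        exfalso
        apply hv
        rw [← h.eq_one_iff]
        refine hKc _ hvK fun y hy => ?_
        rw [h2, ← hcA]
        exact hc y hy
      obtain ⟨n, -, hn⟩ := h.exists_conj hv hne
      have hD : IsComponent (K.map (MulAut.conj n).toMonoidHom) := isComponent_conj n hK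
      have hmem : th (v + (w + u)) ∈ K.map (MulAut.conj n).toMonoidHom := ⟨th v, hvK, hn⟩
      rw [h.add, ← hcA] at hmem
      by_cases hDK : K.map (MulAut.conj n).toMonoidHom = K
      · rw [hDK] at hmem
        have h2 : c ∈ K := by
          have := K.mul_mem (K.inv_mem hvK) hmem
          rwa [inv_mul_cancel_left] at this
        have h3 : c = 1 := hKc c h2 hc
        rw [h3] at hcA
        exact hwu ((h.eq_one_iff _).1 hcA.symm)
      · have h2 : ∀ y ∈ K, th v * c * y = y * (th v * c) := fun y hy => comm_of_ne hD hK hDK hmem hy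
        apply hv
        rw [← h.eq_one_iff]
        refine hKc _ hvK fun y hy => ?_
        have h3 := h2 y hy
        rw [mul_assoc, hc y hy, ← mul_assoc, ← mul_assoc] at h3
        exact mul_right_cancel h3
  -- uniqueness
  have huniq : ∀ D : Subgroup G, IsComponent D → D = K := by
    intro D hD
    by_contra hne
    obtain ⟨x, hx⟩ := exists_prime_orderOf_dvd_card' 2 (heven D hD)
    have hxo : orderOf (x : G) = 2 := by rw [orderOf_coe]; exact hx
    have hx2 : (x : G) * x = 1 := by rw [← pow_two, ← hxo, pow_orderOf_eq_one]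
    obtain ⟨u, hu⟩ := h.mem_of_mul_self (x := x) (fun u => comm_of_ne hD hK hne x.2 (hAK u)) hx2
    have h1 : (x : G) = 1 := hKc x (hu ▸ hAK u) fun y hy => comm_of_ne hD hK hne x.2 hy
    rw [h1, orderOf_one] at hxo
    exact absurd hxo (by decide)
  refine ⟨K, ⟨fun x hx g => ?_⟩, hKs, quasisimple_not_isMulCommutative hK.2, ?_, hAK⟩
  · have h1 := huniq _ (isComponent_conj g hK)
    rw [← h1]
    exact ⟨x, hx, rfl⟩
  · rw [eq_bot_iff]
    intro x hx
    rw [mem_bot]
    refine eq_one_of_centralizes hR fun C hC y hy => ?_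
    rw [huniq C hC] at hy
    rw [← mem_centralizer_iff.1 hx y hy, mul_inv_cancel_right]

/-- restriction to a normal subgroup containing `A`, in which `N_K(A)` does not centralise `A` -/
theorem sub [Finite G] (h : Sit th O K0) (K : Subgroup G) [hKn : K.Normal] (hK : ∀ v, th v ∈ K)
    (hn : ∃ n ∈ K, n ∈ normalizer (h.A : Set G) ∧ ∃ v, n * th v ≠ th v * n) :
    Sit (fun v => (⟨th v, hK v⟩ : K)) (O.subgroupOf K) (K0.subgroupOf K) := by
  have hsurj : ∀ s : S, ∃ n ∈ K, ∃ hn : n ∈ normalizer (h.A : Set G), h.rep ⟨n, hn⟩ = s := by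
    rcases h.normal_cases (K.subgroupOf (normalizer (h.A : Set G))) with h1 | h1
    · exfalso
      obtain ⟨n, hnK, hnN, v, hv⟩ := hn
      have h2 : (⟨n, hnN⟩ : normalizer (h.A : Set G)) ∈ h.rep.ker := h1 (mem_subgroupOf.2 hnK)
      rw [MonoidHom.mem_ker, h.rep_eq_one] at h2
      exact hv (h2 v)
    · intro s
      have h2 : s ∈ (⊤ : Subgroup S) := trivial
      rw [← h1] at h2
      obtain ⟨⟨n, hnN⟩, hnK, rfl⟩ := h2
      exact ⟨n, mem_subgroupOf.1 hnK, hnN, rfl⟩
  exact
    { add := fun u v => Subtype.ext (h.add u v)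
      inj := fun u v huv => h.inj (congrArg Subtype.val huv)
      odd := by
        have h1 : Nat.card (O.subgroupOf K) ∣ Nat.card O := by
          rw [← Nat.card_congr ((O.subgroupOf K).equivMapOfInjective _ K.subtype_injective).toEquiv.symm]
          refine card_dvd_of_le ?_
          rw [subgroupOf_map_subtype]
          exact inf_le_left
        exact h.odd.of_dvd_nat h1
      oc := fun x hx v => Subtype.ext (h.oc x (mem_subgroupOf.1 hx) v)
      oN := fun x hx n hn => by
        rw [mem_subgroupOf] at hx ⊢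
        refine h.oN x hx n fun v => ?_
        obtain ⟨u, hu⟩ := hn v
        exact ⟨u, congrArg Subtype.val hu⟩
      cent := fun x hx => by
        obtain ⟨o, ho, v, hv⟩ := h.cent x fun v => congrArg Subtype.val (hx v)
        have hoK : o ∈ K := by
          have : o = x * (th v)⁻¹ := by rw [hv, mul_inv_cancel_right]
          rw [this]
          exact K.mul_mem x.2 (K.inv_mem (hK v))
        exact ⟨⟨o, hoK⟩, mem_subgroupOf.2 ho, v, Subtype.ext hv⟩
      k0 := fun k hk v => by
        obtain ⟨u, hu⟩ := h.k0 k (mem_subgroupOf.1 hk) v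
        exact ⟨u, Subtype.ext hu⟩
      le := fun x hx => mem_subgroupOf.2 (h.le (mem_subgroupOf.1 hx))
      k0c := fun k hk hc => mem_subgroupOf.2 (h.k0c k (mem_subgroupOf.1 hk) fun v => congrArg Subtype.val (hc v))
      full := fun g => by
        obtain ⟨k, hk, hk'⟩ := h.full g
        obtain ⟨n, hnK, hnN, hnk⟩ := hsurj (h.rep ⟨k, h.K0_le hk⟩)
        obtain ⟨o, ho, w, hw⟩ := h.cent (k * n⁻¹) fun v => by
          have h1 : h.rep ⟨k * n⁻¹, mul_mem (h.K0_le hk) (inv_mem hnN)⟩ = 1 := by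
            have : (⟨k * n⁻¹, mul_mem (h.K0_le hk) (inv_mem hnN)⟩ : normalizer (h.A : Set G)) =
                ⟨k, h.K0_le hk⟩ * ⟨n, hnN⟩⁻¹ := rfl
            rw [this, map_mul, map_inv, hnk, mul_inv_cancel]
          exact (h.rep_eq_one _).1 h1 v
        have h2 : o⁻¹ * k = th w * n := by
          rw [inv_mul_eq_iff_eq_mul, ← mul_assoc, ← hw, inv_mul_cancel_right]
        have h3 : o⁻¹ * k ∈ K := by rw [h2]; exact K.mul_mem (hK w) hnK
        refine ⟨⟨o⁻¹ * k, h3⟩, mem_subgroupOf.2 (K0.mul_mem (K0.inv_mem (h.le ho)) hk), fun v => Subtype.ext ?_⟩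
        change o⁻¹ * k * th v * (o⁻¹ * k)⁻¹ = th (g v)
        rw [← hk' v]
        have h4 := h.oc o ho (g v)
        rw [← hk' v] at h4
        calc o⁻¹ * k * th v * (o⁻¹ * k)⁻¹ = o⁻¹ * (k * th v * k⁻¹ * o) := by group
          _ = o⁻¹ * (o * (k * th v * k⁻¹)) := by rw [h4]
          _ = _ := by group }

end Sit

end Cfsg.Agent.H336.LinFour
end

-- part: H336/LinFour/Main
section
/-!
# Reduction theorem
-/

set_option autoImplicit false

namespace Cfsg.Agent.H336.LinFour

open Subgroup Pointwise Cfsg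

namespace Sit

variable {G : Type*} [Group G] {th : V → G} {O K0 : Subgroup G}

theorem exists_not_comm [Finite G] (h : Sit th O K0) (K : Subgroup G) [hKs : IsSimpleGroup K]
    (hKc : ¬ IsMulCommutative K) (hK : ∀ v, th v ∈ K) :
    ∃ n ∈ K, n ∈ normalizer (h.A : Set G) ∧ ∃ v, n * th v ≠ th v * n := by
  by_contra hcon
  push Not at hcon
  have : Fact (Nat.Prime 2) := ⟨Nat.prime_two⟩
  have hAK : h.A ≤ K := by rintro _ ⟨v, rfl⟩; exact hK v
  obtain ⟨P, hP⟩ := (h.isPGroup_A.comap_of_injective K.subtype K.subtype_injective).exists_le_sylow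
  change h.A.subgroupOf K ≤ P at hP
  have hnorm : ∀ x : K, x ∈ normalizer (h.A.subgroupOf K : Set K) → ∀ v, (x : G) * th v = th v * x := by
    intro x hx
    refine hcon x x.2 ?_
    rw [mem_normalizer_iff] at hx ⊢
    intro a
    constructor
    · intro ha
      exact mem_subgroupOf.1 ((hx ⟨a, hAK ha⟩).1 (mem_subgroupOf.2 ha))
    · intro ha
      have haK : a ∈ K := by
        have h3 := K.mul_mem (K.mul_mem (K.inv_mem x.2) (hAK ha)) x.2
        have h4 : (x : G)⁻¹ * (x * a * (x : G)⁻¹) * x = a := by group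
        rwa [h4] at h3
      exact mem_subgroupOf.1 ((hx ⟨a, haK⟩).2 (mem_subgroupOf.2 ha))
  have hPA : (P : Subgroup K) = h.A.subgroupOf K := by
    refine eq_of_inf_normalizer_le P.2 hP ?_
    rintro x ⟨hxP, hx⟩
    obtain ⟨n, hn⟩ := P.2 ⟨x, hxP⟩
    rw [mem_subgroupOf]
    have hn' : x ^ 2 ^ n = 1 := congrArg Subtype.val hn
    exact h.mem_of_sq (hnorm x hx) (n := n) (by
      have := congrArg Subtype.val hn'
      exact this)
  have hNC : normalizer ((P : Subgroup K) : Set K) ≤ centralizer ((P : Subgroup K) : Set K) := by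
    intro x hx
    rw [hPA] at hx ⊢
    rw [mem_centralizer_iff]
    intro y hy
    obtain ⟨v, hv⟩ := mem_subgroupOf.1 hy
    apply Subtype.ext
    change (y : G) * x = x * y
    rw [← hv]
    exact (hnorm x hx v).symm
  have hcomp := MonoidHom.ker_transferSylow_isComplement' P hNC
  have hcard : Nat.card (P : Subgroup K) = 16 := by
    rw [hPA, Nat.card_congr (subgroupOfEquivOfLe hAK).toEquiv, h.card_A]
  rcases (inferInstance : (MonoidHom.transferSylow P hNC).ker.Normal).eq_bot_or_eq_top with h1 | h1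
  · rw [h1] at hcomp
    have h2 : (P : Subgroup K) = ⊤ := by
      rwa [isComplement'_bot_left] at hcomp
    apply hKc
    refine ⟨⟨fun x y => ?_⟩⟩
    have hx : x ∈ (P : Subgroup K) := by rw [h2]; trivial
    have hy : y ∈ (P : Subgroup K) := by rw [h2]; trivial
    rw [hPA] at hx hy
    obtain ⟨u, hu⟩ := mem_subgroupOf.1 hx
    obtain ⟨v, hv⟩ := mem_subgroupOf.1 hy
    apply Subtype.ext
    change (x : G) * y = y * x
    rw [← hu, ← hv]
    exact h.comm u v
  · rw [h1] at hcomp
    have h2 : (P : Subgroup K) = ⊥ := by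
      rwa [isComplement'_top_left] at hcomp
    rw [h2, card_bot] at hcard
    exact absurd hcard (by decide)

/-- **Reduction.** -/
theorem reduce [Finite G] (h : Sit th O K0) (hO : oddCore G = ⊥) : h.A.Normal ∨
    ∃ K : Subgroup G, K.Normal ∧ IsSimpleGroup K ∧ ¬ IsMulCommutative K ∧ centralizer (K : Set G) = ⊥ ∧
      ∃ hK : ∀ v, th v ∈ K, Sit (fun v => (⟨th v, hK v⟩ : K)) (O.subgroupOf K) (K0.subgroupOf K) := by
  by_cases hN : h.A.Normal
  · exact Or.inl hN
  · right
    obtain ⟨K, hKn, hKs, hKc, hC, hK⟩ := h.exists_simple hO hN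
    exact ⟨K, hKn, hKs, hKc, hC, hK, h.sub K hK (h.exists_not_comm K hKc hK)⟩

end Sit

end Cfsg.Agent.H336.LinFour
end

-- part: H336/LinFour/FromE
section
/-!
# The hypotheses of S1918 give `Sit`
-/

set_option autoImplicit false

namespace Cfsg.Agent.H336.LinFour

open Subgroup Cfsg

/-- coordinates on an elementary abelian group of order 16 -/
theorem exists_coord {G : Type*} [Group G] (A : Subgroup G) (hA : Cfsg.IsElementaryAbelian 2 A)
    (hA16 : Nat.card A = 16) : ∃ th : V → G, (∀ u v, th (u + v) = th u * th v) ∧ Function.Injective th ∧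
      ∀ x, x ∈ A ↔ ∃ v, th v = x := by
  have hfin : Finite A := Nat.finite_of_card_ne_zero (by rw [hA16]; norm_num)
  let _ : CommGroup A := { (inferInstance : Group A) with mul_comm := fun a b => hA.1.is_comm.comm a b }
  let _ : Module (ZMod 2) (Additive A) := AddCommGroup.zmodModule (n := 2) fun x => by
    apply Additive.toMul.injective
    apply Subtype.ext
    change ((Additive.toMul x : A) : G) ^ 2 = 1
    exact hA.2 _ (Additive.toMul x : A).2
  have hfd : Module.Finite (ZMod 2) (Additive A) := inferInstance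
  have hrk : Module.finrank (ZMod 2) (Additive A) = 4 := by
    have h1 : Nat.card (Additive A) = 2 ^ Module.finrank (ZMod 2) (Additive A) := by
      have := Module.natCard_eq_pow_finrank (K := ZMod 2) (V := Additive A)
      rwa [Nat.card_zmod] at this
    have h2 : Nat.card (Additive A) = 16 := hA16
    rw [h2] at h1
    have h3 : 2 ^ 4 = 2 ^ Module.finrank (ZMod 2) (Additive A) := by rw [← h1]; norm_num
    exact (Nat.pow_right_injective le_rfl h3).symm
  obtain ⟨e⟩ : Nonempty (V ≃ₗ[ZMod 2] Additive A) := by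
    refine ⟨LinearEquiv.ofFinrankEq _ _ ?_⟩
    rw [hrk, Module.finrank_fintype_fun_eq_card, Fintype.card_fin]
  refine ⟨fun v => ((Additive.toMul (e v) : A) : G), fun u v => ?_, fun u v huv => ?_, fun x => ⟨fun hx => ?_, ?_⟩⟩
  · exact congrArg (fun w : Additive A => ((Additive.toMul w : A) : G)) (map_add e u v)
  · exact e.injective (Additive.toMul.injective (Subtype.ext huv))
  · obtain ⟨v, hv⟩ := e.surjective (Additive.ofMul ⟨x, hx⟩)
    exact ⟨v, by change ((Additive.toMul (e v) : A) : G) = x; rw [hv]; rfl⟩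
  · rintro ⟨v, rfl⟩
    exact (Additive.toMul (e v) : A).2

theorem exists_sit_aux {G : Type*} [Group G] [Finite G] (A : Subgroup G) (hA : Cfsg.IsElementaryAbelian 2 A)
    (hA16 : Nat.card A = 16) (N : Subgroup G) (hNdef : N = normalizer (A : Set G)) (D : Subgroup N) [hDn : D.Normal]
    (hDodd : Odd (Nat.card D)) (E K : Subgroup (↥N ⧸ D)) (hEn : E.Normal) (hE16 : Nat.card E = 16)
    (hEc : Subgroup.centralizer (E : Set (↥N ⧸ D)) = E) (hinf : E ⊓ K = ⊥) (hsup : E ⊔ K = ⊤)
    (eK : K ≃* GL (Fin 4) (ZMod 2)) :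
    ∃ (th : V → G) (O K0 : Subgroup G) (h : Sit th O K0), h.A = A := by
  classical
  obtain ⟨th, hadd, hinj, hmem⟩ := exists_coord A hA hA16
  have hAN : A ≤ N := by rw [hNdef]; exact le_normalizer
  have hNmem : ∀ n ∈ N, ∀ a ∈ A, n * a * n⁻¹ ∈ A := by
    intro n hn a ha
    rw [hNdef, mem_normalizer_iff] at hn
    exact (hn a).1 ha
  let π : N →* (↥N ⧸ D) := QuotientGroup.mk' D
  have hπs : Function.Surjective π := QuotientGroup.mk'_surjective _
  have hπk : ∀ n : N, π n = 1 ↔ n ∈ D := fun n => by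
    rw [← MonoidHom.mem_ker]
    change n ∈ (QuotientGroup.mk' D).ker ↔ _
    rw [QuotientGroup.ker_mk']
  have hsq : ∀ v, th v * th v = 1 := fun v => by
    rw [← hadd, v_add_self]
    have := hadd 0 0
    rw [add_zero] at this
    exact left_eq_mul.mp this
  have hthA : ∀ v, th v ∈ A := fun v => (hmem _).2 ⟨v, rfl⟩
  -- `A ∩ D = 1`
  have hAD : ∀ n : N, (n : G) ∈ A → n ∈ D → n = 1 := by
    intro n hnA hnD
    obtain ⟨v, hv⟩ := (hmem _).1 hnA
    have h1 : orderOf (⟨n, hnD⟩ : D) ∣ 2 := orderOf_dvd_of_pow_eq_one (Subtype.ext (Subtype.ext (by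
      change (n : G) ^ 2 = 1
      rw [← hv, pow_two, hsq])))
    have h2 : orderOf (⟨n, hnD⟩ : D) ∣ Nat.card D := orderOf_dvd_natCard _
    have h3 : orderOf (⟨n, hnD⟩ : D) = 1 :=
      Nat.eq_one_of_dvd_coprimes (Nat.coprime_two_left.2 hDodd) h1 h2
    exact congrArg Subtype.val (orderOf_eq_one_iff.1 h3)
  -- `D` centralises `A`
  have hDA : ∀ d ∈ D, ∀ v, (d : G) * th v = th v * d := by
    intro d hd v
    let a : N := ⟨th v, hAN (hthA v)⟩
    have h1 : d * a * d⁻¹ * a⁻¹ = 1 := by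
      apply hAD
      · have h2 : (d : G) * th v * (d : G)⁻¹ ∈ A := hNmem d d.2 _ (hthA v)
        exact A.mul_mem h2 (A.inv_mem (hthA v))
      · have h2 : a * d⁻¹ * a⁻¹ ∈ D := hDn.conj_mem _ (D.inv_mem hd) a
        have h3 : d * a * d⁻¹ * a⁻¹ = d * (a * d⁻¹ * a⁻¹) := by group
        rw [h3]
        exact D.mul_mem hd h2
    rw [mul_inv_eq_one, mul_inv_eq_iff_eq_mul] at h1
    exact congrArg Subtype.val h1
  -- `Q / E ≅ K`
  have hbij : Function.Bijective ((QuotientGroup.mk' E).comp K.subtype) := by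
    constructor
    · rw [injective_iff_map_eq_one]
      intro k hk
      have h1 : (k : ↥N ⧸ D) ∈ E := by
        have h2 : (QuotientGroup.mk' E) (k : ↥N ⧸ D) = 1 := hk
        rwa [← MonoidHom.mem_ker, QuotientGroup.ker_mk'] at h2
      have h3 : (k : ↥N ⧸ D) ∈ E ⊓ K := ⟨h1, k.2⟩
      rw [hinf, mem_bot] at h3
      exact Subtype.ext h3
    · intro y
      obtain ⟨x, rfl⟩ := QuotientGroup.mk'_surjective E y
      have hx : x ∈ E ⊔ K := by rw [hsup]; trivial
      obtain ⟨e, he, k, hk, rfl⟩ := mem_sup_of_normal_left.1 hx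
      refine ⟨⟨k, hk⟩, ?_⟩
      change (QuotientGroup.mk' E) k = _
      rw [map_mul]
      have h2 : (QuotientGroup.mk' E) e = 1 := by
        rw [← MonoidHom.mem_ker, QuotientGroup.ker_mk']; exact he
      rw [h2, one_mul]
  let eQ : K ≃* ((↥N ⧸ D) ⧸ E) := MulEquiv.ofBijective _ hbij
  have hsimp : IsSimpleGroup ((↥N ⧸ D) ⧸ E) := by
    have := isSimple_S
    exact (eQ.symm.trans eK).isSimpleGroup
  have hcardK : Nat.card K = 20160 := by rw [Nat.card_congr eK.toEquiv]; exact card_S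
  have hcardQ : Nat.card ((↥N ⧸ D) ⧸ E) = 20160 := by rw [← Nat.card_congr eQ.toEquiv, hcardK]
  -- the image of `A`
  let Ab : Subgroup (↥N ⧸ D) := (A.subgroupOf N).map π
  have hAbn : Ab.Normal := by
    have h1 : (A.subgroupOf N).Normal := by
      refine ⟨fun a ha n => ?_⟩
      rw [mem_subgroupOf] at ha ⊢
      exact hNmem n n.2 _ ha
    exact h1.map π hπs
  have hAbcard : Nat.card Ab = 16 := by
    have h1 : Function.Injective (π.comp (A.subgroupOf N).subtype) := by
      rw [injective_iff_map_eq_one]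
      intro a ha
      have h2 : π (a : N) = 1 := ha
      exact Subtype.ext (hAD a (mem_subgroupOf.1 a.2) ((hπk _).1 h2))
    have h2 : Nat.card Ab = Nat.card (A.subgroupOf N) := by
      have h3 : Ab = (π.comp (A.subgroupOf N).subtype).range := by
        rw [MonoidHom.range_eq_map, ← Subgroup.map_map, ← MonoidHom.range_eq_map, Subgroup.range_subtype]
      rw [h3]
      exact (Nat.card_congr (Equiv.ofInjective _ h1)).symm
    rw [h2, Nat.card_congr (subgroupOfEquivOfLe hAN).toEquiv, hA16]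
  have hAbE : Ab = E := by
    have h1 : Ab ≤ E := by
      have hn2 : (Ab.map (QuotientGroup.mk' E)).Normal := hAbn.map _ (QuotientGroup.mk'_surjective E)
      rcases hn2.eq_bot_or_eq_top with h2 | h2
      · rw [Subgroup.map_eq_bot_iff, QuotientGroup.ker_mk'] at h2
        exact h2
      · exfalso
        have h3 : Nat.card (Ab.map (QuotientGroup.mk' E)) ∣ Nat.card Ab := by
          exact Subgroup.card_map_dvd Ab (QuotientGroup.mk' E)
        rw [h2, card_top, hcardQ, hAbcard] at h3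
        exact absurd h3 (by norm_num)
    exact Subgroup.eq_of_le_of_card_ge h1 (by rw [hAbcard, hE16])
  have hAbc : centralizer (Ab : Set (↥N ⧸ D)) = Ab := by rw [hAbE, hEc]
  -- centralising `A` and centralising the image
  have hcc : ∀ n : N, (∀ a ∈ Ab, π n * a = a * π n) → ∀ v, (n : G) * th v = th v * n := by
    intro n hn v
    let a : N := ⟨th v, hAN (hthA v)⟩
    have h0 := hn (π a) ⟨a, mem_subgroupOf.2 (hthA v), rfl⟩
    have h1 : n * a * n⁻¹ * a⁻¹ = 1 := by
      apply hAD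
      · have h2 : (n : G) * th v * (n : G)⁻¹ ∈ A := hNmem n n.2 _ (hthA v)
        exact A.mul_mem h2 (A.inv_mem (hthA v))
      · rw [← hπk, map_mul, map_mul, map_mul, h0, map_inv, map_inv]; group
    rw [mul_inv_eq_one, mul_inv_eq_iff_eq_mul] at h1
    exact congrArg Subtype.val h1
  have hcent : ∀ x : G, (∀ v, x * th v = th v * x) → x ∈ N := by
    intro x hx
    have h1 : x ∈ centralizer (A : Set G) := by
      rw [mem_centralizer_iff]
      intro a ha
      obtain ⟨v, rfl⟩ := (hmem _).1 ha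
      exact (hx v).symm
    rw [hNdef]
    exact centralizer_le_normalizer (A : Set G) h1
  have hnorm : ∀ n : G, (∀ v, ∃ u, n * th v * n⁻¹ = th u) → n ∈ N := by
    intro n h
    rw [hNdef, mem_normalizer_iff]
    have h1 : ∀ a ∈ A, n * a * n⁻¹ ∈ A := by
      intro a ha
      obtain ⟨v, rfl⟩ := (hmem _).1 ha
      obtain ⟨u, hu⟩ := h v
      rw [hu]
      exact hthA u
    intro a
    refine ⟨h1 a, fun ha => ?_⟩
    let f : A → A := fun x => ⟨n * x * n⁻¹, h1 x x.2⟩
    have hf : Function.Injective f := fun x y hxy => by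
      have := congrArg Subtype.val hxy
      exact Subtype.ext (mul_left_cancel (mul_right_cancel this))
    obtain ⟨y, hy⟩ := Finite.injective_iff_surjective.1 hf ⟨_, ha⟩
    have h2 : n * (y : G) * n⁻¹ = n * a * n⁻¹ := congrArg Subtype.val hy
    rw [← mul_left_cancel (mul_right_cancel h2)]
    exact y.2
  -- the action of `N` on `V`
  have hactN : ∀ n : N, ∃ s : S, ∀ v, (n : G) * th v * (n : G)⁻¹ = th (act s v) := by
    intro n
    have h1 : ∀ v, ∃ u, (n : G) * th v * (n : G)⁻¹ = th u := fun v => by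
      obtain ⟨u, hu⟩ := (hmem _).1 (hNmem n n.2 _ (hthA v))
      exact ⟨u, hu.symm⟩
    choose f hf using h1
    have hfi : Function.Injective f := fun a b hab => by
      apply hinj
      have := (hf a).trans ((congrArg th hab).trans (hf b).symm)
      exact mul_left_cancel (mul_right_cancel this)
    have hfb : Function.Bijective f := ⟨hfi, Finite.injective_iff_surjective.1 hfi⟩
    let g : V ≃+ V := { Equiv.ofBijective f hfb with
      map_add' := fun u v => by
        change f (u + v) = f u + f v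
        apply hinj
        rw [hadd, ← hf, ← hf, ← hf, hadd]; group }
    obtain ⟨s, hs⟩ := exists_act g
    exact ⟨s, fun v => by rw [hs]; exact hf v⟩
  choose ρ0 hρ0 using hactN
  have hρuniq : ∀ (n : N) (s : S), (∀ v, (n : G) * th v * (n : G)⁻¹ = th (act s v)) → ρ0 n = s := by
    intro n s hs
    apply act_ext
    intro v
    apply hinj
    rw [← hρ0, hs]
  let ρN : N →* S := MonoidHom.mk' ρ0 (fun m n => by
    apply hρuniq
    intro v
    rw [act_mul, ← hρ0, ← hρ0]
    push_cast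
    group)
  have hρN : ∀ (n : N) v, (n : G) * th v * (n : G)⁻¹ = th (act (ρN n) v) := hρ0
  have hρ1 : ∀ n : N, ρN n = 1 ↔ ∀ v, (n : G) * th v = th v * n := by
    intro n
    constructor
    · intro h1 v
      have := hρN n v
      rw [h1, act_one, mul_inv_eq_iff_eq_mul] at this
      exact this
    · intro h1
      apply hρuniq
      intro v
      rw [act_one, h1, mul_inv_cancel_right]
  let ρQ : (↥N ⧸ D) →* S := QuotientGroup.lift D ρN fun d hd => (hρ1 d).2 (hDA d hd)
  have hρQ : ∀ n : N, ρQ (π n) = ρN n := fun n => rfl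
  have hρK : Function.Bijective (ρQ.comp K.subtype) := by
    have hi : Function.Injective (ρQ.comp K.subtype) := by
      rw [injective_iff_map_eq_one]
      intro k hk
      obtain ⟨n, hn⟩ := hπs (k : ↥N ⧸ D)
      have h1 : ρN n = 1 := by
        rw [← hρQ, hn]; exact hk
      have h2 := (hρ1 n).1 h1
      have h3 : (k : ↥N ⧸ D) ∈ centralizer (Ab : Set (↥N ⧸ D)) := by
        rw [mem_centralizer_iff]
        rintro _ ⟨a, ha, rfl⟩
        obtain ⟨v, hv⟩ := (hmem _).1 (mem_subgroupOf.1 ha)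
        rw [← hn, ← map_mul, ← map_mul]
        congr 1
        apply Subtype.ext
        change (a : G) * n = n * a
        rw [← hv, h2]
      rw [hAbc, hAbE] at h3
      have h4 : (k : ↥N ⧸ D) ∈ E ⊓ K := ⟨h3, k.2⟩
      rw [hinf, mem_bot] at h4
      exact Subtype.ext h4
    have hfinS : Finite S := inferInstance
    exact (Nat.bijective_iff_injective_and_card _).2 ⟨hi, by rw [hcardK, card_S]⟩
  let K0 : Subgroup G := (K.comap π).map N.subtype
  let O : Subgroup G := D.map N.subtype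
  have hSit : Sit th O K0 :=
    { add := hadd
      inj := hinj
      odd := by
        have h1 : Nat.card O = Nat.card D :=
          (Nat.card_congr (D.equivMapOfInjective _ N.subtype_injective).toEquiv).symm
        rw [h1]; exact hDodd
      oc := by
        rintro _ ⟨d, hd, rfl⟩ v
        exact hDA d hd v
      oN := by
        rintro _ ⟨d, hd, rfl⟩ n hn
        exact ⟨⟨n, hnorm n hn⟩ * d * ⟨n, hnorm n hn⟩⁻¹, hDn.conj_mem _ hd _, rfl⟩
      cent := by
        intro x hx
        let n : N := ⟨x, hcent x hx⟩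
        have h1 : π n ∈ Ab := by
          rw [← hAbc, mem_centralizer_iff]
          rintro _ ⟨a, ha, rfl⟩
          obtain ⟨v, hv⟩ := (hmem _).1 (mem_subgroupOf.1 ha)
          rw [← map_mul, ← map_mul]
          congr 1
          apply Subtype.ext
          change (a : G) * x = x * a
          rw [← hv, hx]
        obtain ⟨a, ha, ha'⟩ := h1
        obtain ⟨v, hv⟩ := (hmem _).1 (mem_subgroupOf.1 ha)
        have h2 : n * a⁻¹ ∈ D := by
          rw [← hπk, map_mul, map_inv, ← ha', mul_inv_cancel]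
        refine ⟨x * (th v)⁻¹, ⟨n * a⁻¹, h2, ?_⟩, v, by group⟩
        change x * (a : G)⁻¹ = _
        rw [hv]
      k0 := by
        rintro _ ⟨n, -, rfl⟩ v
        exact ⟨_, hρN n v⟩
      le := by
        rintro _ ⟨d, hd, rfl⟩
        refine ⟨d, ?_, rfl⟩
        change π d ∈ K
        rw [(hπk d).2 hd]
        exact K.one_mem
      k0c := by
        rintro _ ⟨n, hn, rfl⟩ hc
        refine ⟨n, ?_, rfl⟩
        change n ∈ D
        rw [← hπk]
        have h1 : (ρQ.comp K.subtype) ⟨π n, hn⟩ = (ρQ.comp K.subtype) 1 := by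
          rw [map_one]
          change ρQ (π n) = 1
          rw [hρQ, hρ1]
          exact hc
        exact congrArg Subtype.val (hρK.1 h1)
      full := by
        intro g
        obtain ⟨s, hs⟩ := exists_act g
        obtain ⟨k, hk⟩ := hρK.2 s
        obtain ⟨n, hn⟩ := hπs (k : ↥N ⧸ D)
        refine ⟨n, ⟨n, ?_, rfl⟩, fun v => ?_⟩
        · change π n ∈ K
          rw [hn]; exact k.2
        · rw [hρN, ← hs, ← hρQ, hn]
          have hk' : ρQ (k : ↥N ⧸ D) = s := hk
          rw [hk'] }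
  refine ⟨th, O, K0, hSit, ?_⟩
  ext x
  exact (hmem x).symm

theorem exists_sit {G : Type*} [Group G] [Finite G] (A : Subgroup G) (hA : Cfsg.IsElementaryAbelian 2 A)
    (hA16 : Nat.card A = 16)
    (hN : ∃ (E K : Subgroup (↥(Subgroup.normalizer (A : Set G)) ⧸ Cfsg.oddCore ↥(Subgroup.normalizer (A : Set G)))),
      E.Normal ∧ Cfsg.IsElementaryAbelian 2 E ∧ Nat.card E = 16 ∧
      Subgroup.centralizer (E : Set (↥(Subgroup.normalizer (A : Set G)) ⧸ Cfsg.oddCore ↥(Subgroup.normalizer (A : Set G)))) = E ∧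
      E ⊓ K = ⊥ ∧ E ⊔ K = ⊤ ∧ Nonempty (K ≃* GL (Fin 4) (ZMod 2))) :
    ∃ (th : V → G) (O K0 : Subgroup G) (h : Sit th O K0), h.A = A := by
  obtain ⟨E, K, hEn, -, hE16, hEc, hinf, hsup, ⟨eK⟩⟩ := hN
  exact exists_sit_aux A hA hA16 _ rfl (Cfsg.oddCore ↥(Subgroup.normalizer (A : Set G)))
    (Nat.coprime_two_right.1 (Lib.Cores.pPrimeCore_coprime (G := ↥(Subgroup.normalizer (A : Set G))) 2)) E K hEn hE16
    hEc hinf hsup eK

end Cfsg.Agent.H336.LinFour
end

-- part: H336/LinFour/Quot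
section
/-!
# `Sit` modulo a normal subgroup of odd order
-/

set_option autoImplicit false

namespace Cfsg.Agent.H336.LinFour

open Subgroup Pointwise

/-- a 2-subgroup `B` normalised modulo the odd normal subgroup `M` -/
theorem frattini {G : Type*} [Group G] [Finite G] (M B : Subgroup G) [M.Normal] (hM : Odd (Nat.card M))
    (hB : IsPGroup 2 B) (x : G) (hx : ∀ b ∈ B, ∃ m ∈ M, ∃ c ∈ B, x * b * x⁻¹ = m * c) :
    ∃ m ∈ M, ∀ b ∈ B, (m * x) * b * (m * x)⁻¹ ∈ B := by
  have : Fact (Nat.Prime 2) := ⟨Nat.prime_two⟩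
  set H := M ⊔ B with hH
  have hMB : M ⊓ B = ⊥ := by
    rw [eq_bot_iff]
    rintro y ⟨hyM, hyB⟩
    obtain ⟨n, hn⟩ := hB ⟨y, hyB⟩
    have hn' : y ^ 2 ^ n = 1 := congrArg Subtype.val hn
    have h1 : orderOf (⟨y, hyM⟩ : M) ∣ 2 ^ n := orderOf_dvd_of_pow_eq_one (Subtype.ext hn')
    have h2 : orderOf (⟨y, hyM⟩ : M) ∣ Nat.card M := orderOf_dvd_natCard _
    have h3 : orderOf (⟨y, hyM⟩ : M) = 1 :=
      Nat.eq_one_of_dvd_coprimes (Nat.Coprime.pow_left _ (Nat.coprime_two_left.2 hM)) h1 h2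
    rw [mem_bot]
    exact congrArg Subtype.val (orderOf_eq_one_iff.1 h3)
  have hcard : Nat.card H = Nat.card M * Nat.card B := by
    have h1 := (M.subgroupOf H).card_mul_index
    have h2 : Nat.card (M.subgroupOf H) = Nat.card M := Nat.card_congr (subgroupOfEquivOfLe le_sup_left).toEquiv
    have h3 : (M.subgroupOf H).index = M.relIndex B := by
      change M.relIndex (M ⊔ B) = _
      rw [sup_comm, Subgroup.relIndex_sup_right]
    have h4 : M.relIndex B = Nat.card B := by
      rw [← Subgroup.inf_relIndex_right, hMB, Subgroup.relIndex_bot_left]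
    rw [h2, h3, h4] at h1
    exact h1.symm
  have key : ∀ C : Subgroup G, C ≤ H → Nat.card C = Nat.card B → ¬ 2 ∣ (C.subgroupOf H).index := by
    intro C hC hc
    have h1 := (C.subgroupOf H).card_mul_index
    have h2 : Nat.card (C.subgroupOf H) = Nat.card C := Nat.card_congr (subgroupOfEquivOfLe hC).toEquiv
    rw [h2, hcard, hc, mul_comm (Nat.card M)] at h1
    have h3 := Nat.eq_of_mul_eq_mul_left Nat.card_pos h1
    rw [h3]
    exact Nat.two_dvd_ne_zero.2 (Nat.odd_iff.1 hM)
  let C : Subgroup G := B.map (MulAut.conj x).toMonoidHom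
  have hCH : C ≤ H := by
    rintro _ ⟨b, hb, rfl⟩
    obtain ⟨m, hm, c, hc, h1⟩ := hx b hb
    change x * b * x⁻¹ ∈ H
    rw [h1]
    exact mul_mem (mem_sup_left hm) (mem_sup_right hc)
  have hCcard : Nat.card C = Nat.card B :=
    (Nat.card_congr (B.equivMapOfInjective _ (MulAut.conj x).injective).toEquiv).symm
  have hCp : IsPGroup 2 C := hB.map _
  let P : Sylow 2 H := IsPGroup.toSylow (hB.comap_of_injective H.subtype H.subtype_injective)
    (key B le_sup_right rfl)
  let P' : Sylow 2 H := IsPGroup.toSylow (hCp.comap_of_injective H.subtype H.subtype_injective)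
    (key C hCH hCcard)
  obtain ⟨⟨g, hgH⟩, hg⟩ := MulAction.exists_smul_eq H P' P
  obtain ⟨m, hm, b, hb, rfl⟩ := mem_sup_of_normal_left.1 hgH
  -- `m b C b⁻¹ m⁻¹ = B`
  have h1 : ∀ c ∈ C, (m * b) * c * (m * b)⁻¹ ∈ B := by
    intro c hc
    have h2 : (⟨c, hCH hc⟩ : H) ∈ (P' : Subgroup H) := mem_subgroupOf.2 hc
    have h3 : (⟨m * b, hgH⟩ : H) * ⟨c, hCH hc⟩ * (⟨m * b, hgH⟩ : H)⁻¹ ∈ (P : Subgroup H) := by
      rw [← hg]
      change _ ∈ (MulAut.conj (⟨m * b, hgH⟩ : H)) • (P' : Subgroup H)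
      rw [Subgroup.mem_pointwise_smul_iff_inv_smul_mem]
      have h5 : (MulAut.conj (⟨m * b, hgH⟩ : H))⁻¹ • ((⟨m * b, hgH⟩ : H) * ⟨c, hCH hc⟩ * (⟨m * b, hgH⟩ : H)⁻¹) =
          ⟨c, hCH hc⟩ := by
        rw [← map_inv, MulAut.smul_def, MulAut.conj_apply]; group
      rw [h5]
      exact h2
    exact mem_subgroupOf.1 h3
  refine ⟨b⁻¹ * m * b, ?_, fun a ha => ?_⟩
  · have := (inferInstance : M.Normal).conj_mem m hm b⁻¹
    rwa [inv_inv] at this
  · have h2 := h1 (x * a * x⁻¹) ⟨a, ha, rfl⟩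
    have h3 := mul_mem (mul_mem (inv_mem hb) h2) hb
    have h4 : b⁻¹ * (m * b * (x * a * x⁻¹) * (m * b)⁻¹) * b = b⁻¹ * m * b * x * a * (b⁻¹ * m * b * x)⁻¹ := by group
    rwa [h4] at h3

namespace Sit

variable {G : Type*} [Group G] {th : V → G} {O K0 : Subgroup G}

theorem eq_one_of_mem [Finite G] (h : Sit th O K0) {M : Subgroup G} (hM : Odd (Nat.card M)) {v : V} (hv : th v ∈ M) :
    v = 0 := by
  have h1 : orderOf (⟨th v, hv⟩ : M) ∣ 2 := orderOf_dvd_of_pow_eq_one (Subtype.ext (by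
    change th v ^ 2 = 1
    rw [pow_two, h.sq]))
  have h2 : orderOf (⟨th v, hv⟩ : M) ∣ Nat.card M := orderOf_dvd_natCard _
  have h3 : orderOf (⟨th v, hv⟩ : M) = 1 :=
    Nat.eq_one_of_dvd_coprimes (Nat.coprime_two_left.2 hM) h1 h2
  exact (h.eq_one_iff v).1 (congrArg Subtype.val (orderOf_eq_one_iff.1 h3))

/-- **passing to the quotient by a normal subgroup of odd order** -/
theorem quot [Finite G] (h : Sit th O K0) (M : Subgroup G) [hMn : M.Normal] (hM : Odd (Nat.card M)) :
    Sit (fun v => (QuotientGroup.mk' M) (th v)) (O.map (QuotientGroup.mk' M)) (K0.map (QuotientGroup.mk' M)) := by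
  have hk : ∀ x : G, (QuotientGroup.mk' M) x = 1 ↔ x ∈ M := fun x => by
    rw [← MonoidHom.mem_ker, QuotientGroup.ker_mk']
  have hth : ∀ v, (QuotientGroup.mk' M) (th v) = 1 ↔ v = 0 := fun v => by
    rw [hk]
    refine ⟨fun hv => h.eq_one_of_mem hM hv, ?_⟩
    rintro rfl
    rw [h.zero]; exact M.one_mem
  have hinj : ∀ u v, (QuotientGroup.mk' M) (th u) = (QuotientGroup.mk' M) (th v) → u = v := by
    intro u v huv
    have h1 : (QuotientGroup.mk' M) (th (u + v)) = 1 := by
      rw [h.add, map_mul, huv, ← map_mul, h.sq, map_one]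
    exact (add_eq_zero_iff _ _).1 ((hth _).1 h1)
  -- lifting normalising elements
  have hlift : ∀ x : G, (∀ v, ∃ u, (QuotientGroup.mk' M) x * (QuotientGroup.mk' M) (th v) *
      ((QuotientGroup.mk' M) x)⁻¹ = (QuotientGroup.mk' M) (th u)) → ∃ m ∈ M, ∀ v, ∃ u,
        (m * x) * th v * (m * x)⁻¹ = th u := by
    intro x hx
    obtain ⟨m, hm, h1⟩ := frattini M h.A hM h.isPGroup_A x (by
      rintro _ ⟨v, rfl⟩
      obtain ⟨u, hu⟩ := hx v
      refine ⟨x * th v * x⁻¹ * (th u)⁻¹, ?_, th u, h.th_mem u, by group⟩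
      rw [← hk, map_mul, map_mul, map_mul, map_inv, map_inv, hu, mul_inv_cancel])
    refine ⟨m, hm, fun v => ?_⟩
    obtain ⟨u, hu⟩ := h1 _ (h.th_mem v)
    exact ⟨u, hu.symm⟩
  have hmk : ∀ m ∈ M, ∀ x, (QuotientGroup.mk' M) (m * x) = (QuotientGroup.mk' M) x := fun m hm x => by
    rw [map_mul, (hk m).2 hm, one_mul]
  have hcomm : ∀ x : G, (∀ v, ∃ u, x * th v * x⁻¹ = th u) →
      (∀ v, (QuotientGroup.mk' M) x * (QuotientGroup.mk' M) (th v) = (QuotientGroup.mk' M) (th v) *
        (QuotientGroup.mk' M) x) → ∀ v, x * th v = th v * x := by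
    intro x hx hc v
    obtain ⟨u, hu⟩ := hx v
    have h1 : (QuotientGroup.mk' M) (th u) = (QuotientGroup.mk' M) (th v) := by
      rw [← hu, map_mul, map_mul, map_inv, hc v, mul_inv_cancel_right]
    rw [hinj _ _ h1] at hu
    rwa [mul_inv_eq_iff_eq_mul] at hu
  exact
    { add := fun u v => by rw [h.add, map_mul]
      inj := hinj
      odd := h.odd.of_dvd_nat (Subgroup.card_map_dvd O (QuotientGroup.mk' M))
      oc := by
        rintro _ ⟨x, hx, rfl⟩ v
        rw [← map_mul, h.oc x hx v, map_mul]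
      oN := by
        rintro _ ⟨x, hx, rfl⟩ n hn
        obtain ⟨y, rfl⟩ := QuotientGroup.mk'_surjective M n
        obtain ⟨m, hm, h1⟩ := hlift y hn
        refine ⟨(m * y) * x * (m * y)⁻¹, h.oN x hx _ h1, ?_⟩
        rw [map_mul, map_mul, map_inv, hmk m hm]
      cent := by
        intro x hx
        obtain ⟨y, rfl⟩ := QuotientGroup.mk'_surjective M x
        obtain ⟨m, hm, h1⟩ := hlift y fun v => ⟨v, by rw [hx v, mul_inv_cancel_right]⟩
        obtain ⟨o, ho, v, h2⟩ := h.cent (m * y) (hcomm _ h1 fun v => by rw [hmk m hm]; exact hx v)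
        refine ⟨_, ⟨o, ho, rfl⟩, v, ?_⟩
        rw [← hmk m hm, h2, map_mul]
      k0 := by
        rintro _ ⟨k, hk', rfl⟩ v
        obtain ⟨u, hu⟩ := h.k0 k hk' v
        exact ⟨u, by rw [← hu, map_mul, map_mul, map_inv]⟩
      le := map_mono h.le
      k0c := by
        rintro _ ⟨k, hk', rfl⟩ hc
        exact ⟨k, h.k0c k hk' (hcomm k (h.k0 k hk') hc), rfl⟩
      full := by
        intro g
        obtain ⟨k, hk', h1⟩ := h.full g
        exact ⟨_, ⟨k, hk', rfl⟩, fun v => by rw [← h1 v, map_mul, map_mul, map_inv]⟩ }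

end Sit

end Cfsg.Agent.H336.LinFour
end

-- part: H336/LinFour/Normal
section
/-!
# The case `A` normal, `O(G) = 1`
-/

set_option autoImplicit false

namespace Cfsg.Agent.H336.LinFour

open Subgroup Pointwise Cfsg

namespace Sit

variable {G : Type*} [Group G] {th : V → G} {O K0 : Subgroup G}

theorem O_eq_bot [Finite G] (h : Sit th O K0) (hO : oddCore G = ⊥) (hn : h.A.Normal) : O = ⊥ := by
  have hN : ∀ n : G, ∀ v, ∃ u, n * th v * n⁻¹ = th u := by
    intro n v
    obtain ⟨u, hu⟩ := hn.conj_mem _ (h.th_mem v) n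
    exact ⟨u, hu.symm⟩
  have hOn : O.Normal := ⟨fun x hx n => h.oN x hx n (hN n)⟩
  rw [eq_bot_iff, ← hO]
  exact le_sSup ⟨hOn, Nat.coprime_two_right.2 h.odd⟩

theorem normal_case [Finite G] (h : Sit th O K0) (hO : oddCore G = ⊥) (hn : h.A.Normal) :
    ∃ (E' K' : Subgroup G), E'.Normal ∧ IsElementaryAbelian 2 E' ∧ Nat.card E' = 16 ∧
      centralizer (E' : Set G) = E' ∧ E' ⊓ K' = ⊥ ∧ E' ⊔ K' = ⊤ ∧ Nonempty (K' ≃* GL (Fin 4) (ZMod 2)) := by
  have hOb := h.O_eq_bot hO hn
  have hN : normalizer (h.A : Set G) = ⊤ := normalizer_eq_top_iff.2 hn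
  have hc : ∀ x : G, (∀ v, x * th v = th v * x) → x ∈ h.A := by
    intro x hx
    obtain ⟨o, ho, v, rfl⟩ := h.cent x hx
    rw [hOb, mem_bot] at ho
    rw [ho, one_mul]
    exact h.th_mem v
  have hk : ∀ k ∈ K0, (∀ v, k * th v = th v * k) → k = 1 := by
    intro k hk hk'
    have := h.k0c k hk hk'
    rwa [hOb, mem_bot] at this
  refine ⟨h.A, K0, hn, ?_, h.card_A, ?_, ?_, ?_, ?_⟩
  · refine ⟨⟨⟨?_⟩⟩, fun a ha => ?_⟩
    · rintro ⟨_, u, rfl⟩ ⟨_, v, rfl⟩
      exact Subtype.ext (h.comm u v)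
    · obtain ⟨v, rfl⟩ := ha
      rw [pow_two, h.sq]
  · apply le_antisymm
    · intro x hx
      apply hc
      intro v
      exact (mem_centralizer_iff.1 hx _ (h.th_mem v)).symm
    · intro x hx
      rw [mem_centralizer_iff]
      rintro _ ⟨v, rfl⟩
      obtain ⟨u, rfl⟩ := hx
      exact h.comm v u
  · rw [eq_bot_iff_forall]
    rintro x ⟨⟨u, rfl⟩, hx2⟩
    exact hk _ hx2 fun v => h.comm u v
  · rw [eq_top_iff]
    intro x _
    obtain ⟨k, hk0, hk1⟩ := h.rep_surj (h.rep ⟨x, by rw [hN]; trivial⟩)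
    have h1 : k⁻¹ * x ∈ h.A := by
      apply hc
      intro v
      have h2 := h.rep_spec ⟨k, h.K0_le hk0⟩ v
      have h3 := h.rep_spec ⟨x, by rw [hN]; trivial⟩ v
      rw [hk1, ← h3] at h2
      change k * th v * k⁻¹ = x * th v * x⁻¹ at h2
      calc k⁻¹ * x * th v = k⁻¹ * (x * th v * x⁻¹) * x := by group
        _ = k⁻¹ * (k * th v * k⁻¹) * x := by rw [h2]
        _ = _ := by group
    have h2 : x = k * (k⁻¹ * x) := by group
    rw [h2]
    exact mul_mem (mem_sup_right hk0) (mem_sup_left h1)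
  · let f : K0 →* S := h.rep.comp (inclusion h.K0_le)
    have hf : Function.Bijective f := by
      constructor
      · rw [injective_iff_map_eq_one]
        intro k hk1
        apply Subtype.ext
        exact hk _ k.2 ((h.rep_eq_one _).1 hk1)
      · intro s
        obtain ⟨k, hk0, hk1⟩ := h.rep_surj s
        exact ⟨⟨k, hk0⟩, hk1⟩
    exact ⟨MulEquiv.ofBijective f hf⟩

end Sit

end Cfsg.Agent.H336.LinFour
end

-- part: H336/LinFour/Frame
section
/-!
# S1918 from the rows
-/

set_option autoImplicit false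

namespace Cfsg.Agent.H336.LinFour.Frame

open Subgroup Cfsg Cfsg.Agent.H336.LinFour

universe u

/-- the list for the simple group -/
def Three (K : Type u) [Group K] : Prop :=
  (∃ n : ℕ, 16 ≤ n ∧ n ≤ 19 ∧ Nonempty (K ≃* alternatingGroup (Fin n))) ∨
    Nonempty (K ≃* GL (Fin 5) (ZMod 2)) ∨ Spor.IsoM24 K

/-- the list for the group -/
def Five (G : Type u) [Group G] : Prop :=
  Nonempty (G ≃* GL (Fin 5) (ZMod 2)) ∨
      Nonempty (G ≃* MulAut (GL (Fin 5) (ZMod 2))) ∨
      Cfsg.Spor.IsoM24 G ∨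
      (∃ n : ℕ, 16 ≤ n ∧ n ≤ 19 ∧ Nonempty (G ≃* alternatingGroup (Fin n))) ∨
      (∃ n : ℕ, (n = 16 ∨ n = 17) ∧ Nonempty (G ≃* Equiv.Perm (Fin n)))

/-- the rows -/
structure Rows : Prop where
  alt : ∀ {n : ℕ} {th : V → alternatingGroup (Fin n)} {O K0 : Subgroup (alternatingGroup (Fin n))},
    Sit th O K0 → 16 ≤ n ∧ n ≤ 19
  char2 : ∀ {K : Type u} [Group K] [Finite K] [IsSimpleGroup K], (IsLieTypeChar 2 K ∨ Lie.IsoTits K) →
    ∀ {th : V → K} {O K0 : Subgroup K}, Sit th O K0 → Nonempty (K ≃* GL (Fin 5) (ZMod 2))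
  exc : ∀ {K : Type u} [Group K] [Finite K] [IsSimpleGroup K], IsExceptionalLieType K → ¬ (IsLieTypeChar 2 K ∨ Lie.IsoTits K) →
    ∀ {th : V → K} {O K0 : Subgroup K}, Sit th O K0 → False
  spor : ∀ {K : Type u} [Group K] [Finite K] [IsSimpleGroup K], IsSporadicGroup K →
    ∀ {th : V → K} {O K0 : Subgroup K}, Sit th O K0 → Spor.IsoM24 K
  ende : ∀ {G : Type u} [Group G] [Finite G] (K : Subgroup G), K.Normal → centralizer (K : Set G) = ⊥ → 
    ∀ {th : V → G} {O K0 : Subgroup G}, Sit th O K0 → (∀ v, th v ∈ K) → Three K → Five G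

theorem three (R : Rows.{u}) {K : Type u} [Group K] [Finite K] [hs : IsSimpleGroup K] (hna : ¬ IsMulCommutative K)
    (hKn : IsKnownSimple' K) {th : V → K} {O K0 : Subgroup K} (h : Sit th O K0) : Three K := by
  rcases hKn with hK | hK | hK | hK | hK | hK | hK | hK | hK | hK
  · -- prime order
    exfalso
    apply hna
    have : Fact (Nat.card K).Prime := ⟨hK⟩
    have hc : IsCyclic K := isCyclic_of_prime_card rfl
    exact ⟨⟨fun a b => hc.commGroup.mul_comm a b⟩⟩
  · obtain ⟨n, -, ⟨e⟩⟩ := hK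
    obtain ⟨h1, h2⟩ := R.alt (h.equiv e)
    exact Or.inl ⟨n, h1, h2, ⟨e⟩⟩
  · exact Or.inr (Or.inl (R.char2 (Or.inl (ClassRow.charTwo_of_classical h (Or.inl hK))) h))
  · exact Or.inr (Or.inl (R.char2 (Or.inl (ClassRow.charTwo_of_classical h (Or.inr (Or.inl hK)))) h))
  · exact Or.inr (Or.inl (R.char2 (Or.inl (ClassRow.charTwo_of_classical h (Or.inr (Or.inr (Or.inl hK))))) h))
  · exact Or.inr (Or.inl (R.char2 (Or.inl (ClassRow.charTwo_of_classical h (Or.inr (Or.inr (Or.inr (Or.inl hK)))))) h))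
  · exact Or.inr (Or.inl (R.char2 (Or.inl (ClassRow.charTwo_of_classical h
      (Or.inr (Or.inr (Or.inr (Or.inr (Or.inl hK))))))) h))
  · exact Or.inr (Or.inl (R.char2 (Or.inl (ClassRow.charTwo_of_classical h
      (Or.inr (Or.inr (Or.inr (Or.inr (Or.inr hK))))))) h))
  · by_cases h2 : IsLieTypeChar 2 K ∨ Lie.IsoTits K
    · exact Or.inr (Or.inl (R.char2 h2 h))
    · exact (R.exc hK h2 h).elim
  · exact Or.inr (Or.inr (R.spor hK h))

theorem main (R : Rows.{u}) (hcl : ∀ (K : Type u) [Group K] [Finite K] [IsSimpleGroup K], IsKnownSimple' K)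
    {G : Type u} [Group G] [Finite G] (hO : oddCore G = ⊥) {th : V → G} {O K0 : Subgroup G} (h : Sit th O K0) :
    (∃ (E' K' : Subgroup G), E'.Normal ∧ IsElementaryAbelian 2 E' ∧ Nat.card E' = 16 ∧
      centralizer (E' : Set G) = E' ∧ E' ⊓ K' = ⊥ ∧ E' ⊔ K' = ⊤ ∧ Nonempty (K' ≃* GL (Fin 4) (ZMod 2))) ∨ Five G := by
  rcases h.reduce hO with h1 | ⟨K, hKn, hKs, hKc, hC, hK, hS⟩
  · exact Or.inl (h.normal_case hO h1)
  · exact Or.inr (R.ende K hKn hC h hK (three R hKc (hcl K) hS))

/-- the statement -/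
theorem final (R : Rows.{u}) (hcl : ∀ (K : Type u) [Group K] [Finite K] [IsSimpleGroup K], IsKnownSimple' K)
    {G : Type u} [Group G] [Finite G] (A : Subgroup G) (hA : Cfsg.IsElementaryAbelian 2 A) (hA16 : Nat.card A = 16)
    (hN : ∃ (E K : Subgroup (↥(Subgroup.normalizer (A : Set G)) ⧸ Cfsg.oddCore ↥(Subgroup.normalizer (A : Set G)))),
      E.Normal ∧ Cfsg.IsElementaryAbelian 2 E ∧ Nat.card E = 16 ∧
      Subgroup.centralizer (E : Set (↥(Subgroup.normalizer (A : Set G)) ⧸ Cfsg.oddCore ↥(Subgroup.normalizer (A : Set G)))) = E ∧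
      E ⊓ K = ⊥ ∧ E ⊔ K = ⊤ ∧ Nonempty (K ≃* GL (Fin 4) (ZMod 2))) :
    (∃ (E' K' : Subgroup (G ⧸ Cfsg.oddCore G)), E'.Normal ∧ Cfsg.IsElementaryAbelian 2 E' ∧ Nat.card E' = 16 ∧
        Subgroup.centralizer (E' : Set (G ⧸ Cfsg.oddCore G)) = E' ∧ E' ⊓ K' = ⊥ ∧ E' ⊔ K' = ⊤ ∧
        Nonempty (K' ≃* GL (Fin 4) (ZMod 2))) ∨ Five (G ⧸ Cfsg.oddCore G) := by
  obtain ⟨th, O, K0, h, -⟩ := exists_sit A hA hA16 hN
  have h1 : Odd (Nat.card (Cfsg.oddCore G)) :=
    Nat.coprime_two_right.1 (Lib.Cores.pPrimeCore_coprime (G := G) 2)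
  exact main R hcl (Lib.Cores.pPrimeCore_quotient_pPrimeCore 2) (h.quot (Cfsg.oddCore G) h1)

end Cfsg.Agent.H336.LinFour.Frame
end

private theorem dce_b89a7caceeb3 : _root_.True := by
  try have : _root_.True := by simp only [_root_.Cfsg.Agent.H336.LinFour.Sit.A.congr_simp]
  exact _root_.True.intro
end
end
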